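import Cfsg.Agent.Lib.FusionBasics.Criterion.Ext

/-!
Saturation criterion, third part: every class outside the family has a fully automized receptive
member.
-/

set_option autoImplicit false
set_option linter.style.haveILetI false

namespace CfsgLib.FusionBasics

open Cfsg Cfsg.FusionSystem CfsgLib.Alperin

variable {Ω : Type*} [Group Ω] {S : Subgroup Ω}
variable {p : ℕ} [Fact p.Prime] {F : FusionSystem S} {P P₀ : Subgroup Ω}

omit [Fact p.Prime] in
theorem stab_of_res {R A : Subgroup Ω} (hAR : A ≤ R) {v : MulAut R} (κ : MulAut A)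
    (hv : ∀ x : A, v (Subgroup.inclusion hAR x) = Subgroup.inclusion hAR (κ x)) :
    ∃ h : v ∈ stab R A, stabRes hAR ⟨v, h⟩ = κ := by
  refine ⟨fun z => ⟨fun hz => ?_, fun hz => ?_⟩, MulEquiv.ext fun x => Subtype.ext ?_⟩
  · rw [show z = Subgroup.inclusion hAR ⟨z, hz⟩ from rfl, hv]
    exact (κ ⟨z, hz⟩).2
  · obtain ⟨x, hx⟩ := κ.surjective ⟨_, hz⟩
    have : Subgroup.inclusion hAR x = z := v.injective (by rw [hv, hx]; rfl)
    rw [← this]
    exact x.2
  · rw [stabRes_apply]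
    exact congrArg Subtype.val (hv x)

theorem stabRes_mem_autGroup {R A : Subgroup Ω} (hAR : A ≤ R) (hR : R ≤ S) (v : stab R A)
    (hv : (v : MulAut R) ∈ F.autGroup R) : stabRes hAR v ∈ F.autGroup A :=
  (mem_autGroup_iff F (hAR.trans hR)).mpr
    (mem_of_apply_eq (restrict_mem ((mem_autGroup_iff F hR).mp hv) hAR) fun _ => rfl)

variable [Finite S]

/-- `P < coreNorm F p P`: the hypothesis on centric subgroups outside the family enters here. -/
theorem CritData.not_coreNorm_le {ℋ : Set (Subgroup Ω)} (h : CritData F p ℋ P₀)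
    (hstar : ∀ P : Subgroup Ω, F.IsCentric P → P ∉ ℋ → ∃ Q, F.IsConj P Q ∧
      ¬ (autInducedBy S Q ⊓ autCore F p Q ≤ Inn Q))
    (hPc : F.IsConj P₀ P) (htop : ∀ A, F.IsConj P₀ A → FullMap F A P) :
    ¬ coreNorm F p P ≤ P := by
  intro hle
  have key : ∀ {A : Subgroup Ω}, F.IsConj P₀ A → coreNorm F p A ≤ A := by
    intro A hA g hg
    obtain ⟨f, hf, hfm⟩ := htop A hA
    exact apply_mem_of_map_le (F.injective_of_mem hf) hfm (g := ⟨g, coreNorm_le F p A hg⟩)
      (hle (apply_mem_coreNorm hf (le_normalizerIn (CfsgLib.Alperin.IsConj.right_le hA)) hfm _ hg))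
  have hcent : F.IsCentric P := ⟨CfsgLib.Alperin.IsConj.right_le hPc, fun A hA =>
    (centralizerIn_le_coreNorm F p A).trans (key (CfsgLib.Alperin.IsConj.trans hPc hA))⟩
  obtain ⟨Q, hQ, hnot⟩ := hstar P hcent (h.notMem P hPc)
  refine hnot fun β hβ => ?_
  obtain ⟨g, hg, hgx⟩ := mem_autInducedBy_iff.mp hβ.1
  have hgQ : g ∈ Q := key (CfsgLib.Alperin.IsConj.trans hPc hQ) ⟨hg, β, hβ.2, hgx⟩
  exact ⟨⟨g, hgQ⟩, MulEquiv.ext fun x => Subtype.ext (hgx x).symm⟩

/-- Every automorphism of the top member extends to `coreNorm F p P`. -/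
theorem CritData.hasExt {ℋ : Set (Subgroup Ω)} (h : CritData F p ℋ P₀) (hPc : F.IsConj P₀ P)
    (htop : ∀ A, F.IsConj P₀ A → FullMap F A P) {α : MulAut P} (hα : α ∈ F.autGroup P) :
    HasExt F P (coreNorm F p P) α := by
  have hS := h.isPGroup
  have hP : P ≤ S := CfsgLib.Alperin.IsConj.right_le hPc
  have full : ∀ A, F.IsConj P₀ A → ∃ eA : A ≃* P, ∃ f ∈ F.Hom (normalizerIn S A),
      ∃ hA : A ≤ normalizerIn S A, ∀ x : A, (eA x : Ω) = f (Subgroup.inclusion hA x) := by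
    intro A hA
    obtain ⟨f, hf, hfm⟩ := htop A hA
    obtain ⟨eA, -, heA⟩ := exists_iso hf (le_normalizerIn (CfsgLib.Alperin.IsConj.right_le hA)) hfm
    exact ⟨eA, f, hf, _, heA⟩
  choose E₀ f hf hle hfx using full
  let β : ∀ A C, F.IsConj P₀ A → F.IsConj P₀ C → (A ≃* C) → MulAut P :=
    fun A C hA hC ι => ((E₀ A hA).symm.trans ι).trans (E₀ C hC)
  -- the basic step
  have step : ∀ {A C R : Subgroup Ω} (hA : F.IsConj P₀ A) (hC : F.IsConj P₀ C) (ι : A ≃* C)
      (φ : R →* Ω), φ ∈ F.Hom R → ∀ hAR : A ≤ R, A ≠ R → R ≤ normalizerIn S A →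
      (∀ x : A, φ (Subgroup.inclusion hAR x) = (ι x : Ω)) →
      HasExt F P (coreNorm F p P) (β A C hA hC ι) := by
    intro A C R hA hC ι φ hφ hAR hne hRN hι
    set g := (f A hA).comp (Subgroup.inclusion hRN)
    have hg : g ∈ F.Hom R := restrict_mem (hf A hA) hRN
    have hgA : ∀ x : A, g (Subgroup.inclusion hAR x) = (E₀ A hA x : Ω) := fun x => (hfx A hA x).symm
    have hgm := map_eq_of_apply hAR hgA
    set R₀ := g.range with hR₀
    set eg := isoOfHom g (F.injective_of_mem hg) hR₀.symm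
    have hPR₀ : P ≤ R₀ := hgm.symm.le.trans (Subgroup.map_le_range g _)
    have hR₀N : R₀ ≤ normalizerIn S P := by
      rintro _ ⟨x, rfl⟩
      exact apply_mem_normalizerIn hg hAR hgm x (hRN x.2).2
    have hPne : P ≠ R₀ := by
      intro e
      refine hne (le_antisymm hAR fun x hx => ?_)
      exact apply_mem_of_map_le (F.injective_of_mem hg) hgm (g := ⟨x, hx⟩) (e.ge ⟨_, rfl⟩)
    have hφN : ∀ x : R, φ x ∈ normalizerIn S C := fun x =>
      apply_mem_normalizerIn hφ hAR (map_eq_of_apply hAR hι) x (hRN x.2).2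
    have hψ := F.comp_mem (isoOfHom_symm_mem hg hR₀.symm)
      (F.comp_mem hφ (hf C hC) hφN) (fun y => (eg.symm y).2)
    refine h.hasExt_of_step hPc htop hPR₀ hR₀N hPne hψ fun x => ?_
    obtain ⟨a, rfl⟩ := (E₀ A hA).surjective x
    have : eg.symm (Subgroup.inclusion hPR₀ (E₀ A hA a)) = Subgroup.inclusion hAR a :=
      eg.injective (by rw [MulEquiv.apply_symm_apply]; exact Subtype.ext (hgA a).symm)
    show f C hC ⟨φ (eg.symm (Subgroup.inclusion hPR₀ (E₀ A hA a))), _⟩ = _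
    simp only [this, β, MulEquiv.trans_apply, MulEquiv.symm_apply_apply]
    rw [hfx C hC]
    exact congrArg (f C hC) (Subtype.ext (hι a))
  let Good : ∀ R : Subgroup Ω, (R →* Ω) → Prop := fun R φ =>
    ∀ A C (hA : F.IsConj P₀ A) (hC : F.IsConj P₀ C) (ι : A ≃* C) (hAR : A ≤ R),
      (∀ x : A, φ (Subgroup.inclusion hAR x) = (ι x : Ω)) →
      HasExt F P (coreNorm F p P) (β A C hA hC ι)
  let E : FusionSystem S :=
    { Hom := fun R => {φ | φ ∈ F.Hom R ∧ Good R φ}
      le_of_mem := fun hm => F.le_of_mem hm.1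
      injective_of_mem := fun hm => F.injective_of_mem hm.1
      conj_mem := by
        intro R g hR hg
        refine ⟨F.conj_mem hR hg, fun A C hA hC ι hAR hι => ?_⟩
        refine step hA hC ι _ (F.conj_mem (normalizerIn_le S A) hg) (hle A hA) (fun e => ?_) le_rfl
          fun x => (hι x)
        exact (CfsgLib.FusionSub.lt_normalizerIn hS (h.class_lt hA)).ne e
      comp_mem := by
        rintro R Q φ ψ ⟨hφ, hφG⟩ ⟨hψ, hψG⟩ hv
        refine ⟨F.comp_mem hφ hψ hv, fun A C hA hC ι hAR hι => ?_⟩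
        set B := (A.subgroupOf R).map φ with hB
        obtain ⟨ι₁, hι₁m, hι₁⟩ := exists_iso hφ hAR hB.symm
        have hBc : F.IsConj P₀ B :=
          CfsgLib.Alperin.IsConj.trans hA ⟨_, restrict_mem hφ hAR, range_comp_inclusion _ _⟩
        have hBQ : B ≤ Q := by
          rintro _ ⟨w, -, rfl⟩
          exact hv w
        have h1 := hφG A B hA hBc ι₁ hAR fun x => (hι₁ x).symm
        have h2 := hψG B C hBc hC (ι₁.symm.trans ι) hBQ fun y => by
          obtain ⟨x, rfl⟩ := ι₁.surjective y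
          rw [MulEquiv.trans_apply, MulEquiv.symm_apply_apply, ← hι x]
          exact congrArg ψ (Subtype.ext (hι₁ x))
        have : β A C hA hC ι = β B C hBc hC (ι₁.symm.trans ι) * β A B hA hBc ι₁ := by
          refine MulEquiv.ext fun x => ?_
          simp [β, MulAut.mul_apply]
        rw [this]
        exact hasExt_mul hS hP h2 h1
      inv_mem := by
        rintro R φ ⟨hφ, hφG⟩
        obtain ⟨θ, hθ, hθx⟩ := F.inv_mem hφ
        refine ⟨θ, ⟨hθ, fun B A hB hA ι hBR hι => ?_⟩, hθx⟩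
        have hAR : A ≤ R := by
          intro a ha
          obtain ⟨y, hy⟩ := ι.surjective ⟨a, ha⟩
          obtain ⟨v, hv⟩ := hBR y.2
          have h1 := hι y
          rw [hy, show Subgroup.inclusion hBR y = ⟨φ v, ⟨v, rfl⟩⟩ from Subtype.ext hv.symm, hθx] at h1
          rw [show a = (v : Ω) from h1.symm]
          exact v.2
        have h1 := hφG A B hA hB ι.symm hAR fun x => by
          obtain ⟨y, rfl⟩ := ι.surjective x
          rw [MulEquiv.symm_apply_apply]
          obtain ⟨v, hv⟩ := hBR y.2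
          have h1 := hι y
          rw [show Subgroup.inclusion hBR y = ⟨φ v, ⟨v, rfl⟩⟩ from Subtype.ext hv.symm, hθx] at h1
          rw [show Subgroup.inclusion hAR (ι y) = v from Subtype.ext h1.symm, hv]
        have : β B A hB hA ι = (β A B hA hB ι.symm)⁻¹ := by
          refine eq_inv_of_mul_eq_one_left (MulEquiv.ext fun x => ?_)
          simp [β, MulAut.mul_apply]
        rw [this]
        exact hasExt_inv hS hP h1 }
  have hall := h.gen E fun X hX φ hφ => ⟨hφ, fun A C hA hC ι hAX hι => by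
    have hne : A ≠ X := fun e => h.notMem A hA (e ▸ hX)
    obtain ⟨g, hgX, hgN, hgA⟩ := CfsgLib.FusionSub.exists_mem_normalizer_not_mem hS
      (lt_of_le_of_ne hAX hne) (dom_le hφ)
    exact step hA hC ι _ (restrict_mem hφ (inf_le_left (b := normalizerIn S A)))
      (le_inf hAX (hle A hA)) (fun e => hgA (e.ge ⟨hgX, dom_le hφ hgX, hgN⟩)) inf_le_right hι⟩
  have h1 : HasExt F P (coreNorm F p P) (β P P hPc hPc α) :=
    (hall P ((mem_autGroup_iff F hP).mp hα)).2 P P hPc hPc α le_rfl fun x => rfl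
  have h2 : HasExt F P (coreNorm F p P) (E₀ P hPc) :=
    h.hasExt_of_step hPc htop (hle P hPc) le_rfl
      (CfsgLib.FusionSub.lt_normalizerIn hS (h.class_lt hPc)).ne (hf P hPc)
      fun x => (hfx P hPc x).symm
  have : α = (E₀ P hPc : MulAut P)⁻¹ * β P P hPc hPc α * (E₀ P hPc : MulAut P) := by
    refine MulEquiv.ext fun x => ?_
    simp [β, MulAut.mul_apply, MulAut.inv_def]
  rw [this]
  exact hasExt_mul hS hP (hasExt_mul hS hP (hasExt_inv hS hP h2) h1) h2

/-- A class of maximal order outside the family has a fully automized receptive member. -/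
theorem CritData.exists_isGood {ℋ : Set (Subgroup Ω)} (h : CritData F p ℋ P₀)
    (hstar : ∀ P : Subgroup Ω, F.IsCentric P → P ∉ ℋ → ∃ Q, F.IsConj P Q ∧
      ¬ (autInducedBy S Q ⊓ autCore F p Q ≤ Inn Q)) :
    ∃ Q, F.IsConj P₀ Q ∧ IsGood F p Q := by
  obtain ⟨P, hPc, htop⟩ := h.exists_top
  have hS := h.isPGroup
  have hP : P ≤ S := CfsgLib.Alperin.IsConj.right_le hPc
  set D := coreNorm F p P with hD
  have hPD : P ≤ D := le_coreNorm hS F hP
  have hDN : D ≤ normalizerIn S P := coreNorm_le F p P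
  have hDS : D ≤ S := hDN.trans (normalizerIn_le S P)
  have hlt : P < D := lt_of_le_of_ne hPD fun e => h.not_coreNorm_le hstar hPc htop e.ge
  have hcard : Nat.card P₀ < Nat.card D := by
    rw [← CfsgLib.Alperin.IsConj.card_eq hPc]
    exact CfsgLib.FusionSub.card_lt_card hDS hlt
  obtain ⟨Dh, hDh, hgood⟩ := h.big D hDS hcard
  obtain ⟨e, he, hecard⟩ := exists_good_of_isGood hS hDh hgood (stab D P)
  rw [stab_map] at hecard
  set Pb := (P.subgroupOf D).map (Dh.subtype.comp e.toMonoidHom) with hPb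
  have hPbD : Pb ≤ Dh := by
    rintro _ ⟨x, -, rfl⟩
    exact (e x).2
  have hDhS : Dh ≤ S := hgood.2.1
  have hND := normalizerIn_le_normalizer_coreNorm F p hP
  have hXR : ∀ g ∈ normalizerIn S P, ∃ hg : g ∈ Subgroup.normalizer (D : Set Ω),
      MulAut.congr e (conjAut D g hg) ∈ stab Dh Pb := by
    intro g hg
    refine ⟨hND hg, ?_⟩
    rw [hPb, ← stab_map]
    exact ⟨_, fun x => Subgroup.mem_normalizer_iff.mp hg.2 x, rfl⟩
  obtain ⟨u, hu, χ, hχ, hχx⟩ := exists_extend hS hgood.2 hecard he (normalizerIn_le S P) hXR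
  set χN := χ.comp (Subgroup.inclusion (le_sup_left (b := D))) with hχN
  have hχNm : χN ∈ F.Hom (normalizerIn S P) := restrict_mem hχ _
  have hχD : ∀ (d : D), χN (Subgroup.inclusion hDN d) = (u (e d) : Ω) := fun d =>
    (congrArg χ (Subtype.ext rfl)).trans (hχx d)
  have hχP : (P.subgroupOf (normalizerIn S P)).map χN = Pb := by
    ext y
    constructor
    · rintro ⟨w, hw, rfl⟩
      obtain ⟨d, rfl⟩ : ∃ d, Subgroup.inclusion hDN d = w := ⟨⟨w, hPD hw⟩, rfl⟩
      rw [hχD]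
      exact (hu.2 _).mp ⟨d, hw, rfl⟩
    · intro hy
      obtain ⟨z, hz⟩ := e.surjective (u⁻¹ ⟨y, hPbD hy⟩)
      have hzP : (z : Ω) ∈ P := by
        have h2 := ((stab Dh Pb).inv_mem hu.2 ⟨y, hPbD hy⟩).mp hy
        rw [← hz] at h2
        exact apply_mem_of_map_le (φ := Dh.subtype.comp e.toMonoidHom)
          (Dh.subtype_injective.comp e.injective) hPb.symm h2
      refine ⟨Subgroup.inclusion hDN z, hzP, ?_⟩
      rw [hχD, hz, MulAut.apply_inv_self]
  have hfull : FullMap F P Pb := ⟨χN, hχNm, hχP⟩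
  have hPbc : F.IsConj P₀ Pb := CfsgLib.Alperin.IsConj.trans hPc (hfull.isConj hP)
  have hPbS : Pb ≤ S := CfsgLib.Alperin.IsConj.right_le hPbc
  haveI := finite_of_le (normalizerIn_le S Pb)
  have hrange : χN.range = normalizerIn S Pb := by
    refine Subgroup.eq_of_le_of_card_ge ?_ ?_
    · rintro _ ⟨x, rfl⟩
      exact apply_mem_normalizerIn hχNm (le_normalizerIn hP) hχP x x.2.2
    · rw [card_range_eq (F.injective_of_mem hχNm)]
      exact (htop Pb hPbc).card_le hPbS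
  -- `N_S(Pb)` normalizes `Dh`
  have hDhn : normalizerIn S Pb ≤ Subgroup.normalizer (Dh : Set Ω) := by
    have hmap : ∀ n ∈ normalizerIn S Pb, ∀ d ∈ Dh, n * d * n⁻¹ ∈ Dh := by
      intro n hn d hd
      obtain ⟨m, rfl⟩ := hrange.ge hn
      obtain ⟨z, hz⟩ := e.surjective (u⁻¹ ⟨d, hd⟩)
      have hdz : χN (Subgroup.inclusion hDN z) = d := by rw [hχD, hz, MulAut.apply_inv_self]
      have hmem : (m : Ω) * z * (m : Ω)⁻¹ ∈ D := mem_normalizer_conj (hND m.2) z.2
      rw [← hdz, ← map_inv, ← map_mul, ← map_mul,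
        show m * Subgroup.inclusion hDN z * m⁻¹ = Subgroup.inclusion hDN ⟨_, hmem⟩ from
          Subtype.ext rfl, hχD]
      exact SetLike.coe_mem _
    intro n hn
    refine Subgroup.mem_normalizer_iff.mpr fun d => ⟨hmap n hn d, fun h' => ?_⟩
    simpa [mul_assoc] using hmap n⁻¹ ((normalizerIn S Pb).inv_mem hn) _ h'
  -- the isomorphism `D ≃* Dh`
  set e' : D ≃* Dh := e.trans u with he'def
  have he' : Dh.subtype.comp e'.toMonoidHom ∈ F.Hom D :=
    comp_mem_apply he ((mem_autGroup_iff F hDhS).mp hu.1) (fun x => (e x).2) fun x => rfl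
  obtain ⟨eP, hePm, hePx⟩ := exists_iso hχNm (le_normalizerIn hP) hχP
  have he'P : ∀ x : P, e' (Subgroup.inclusion hPD x) = Subgroup.inclusion hPbD (eP x) := fun x =>
    Subtype.ext (((hePx x).trans (hχD (Subgroup.inclusion hPD x))).symm)
  -- every automorphism of `Pb` extends to `Dh`
  haveI := finite_of_le hP
  haveI := finite_of_le hPbS
  haveI := finite_of_le hDS
  haveI := finite_of_le hDhS
  have hextPb : ∀ α ∈ F.autGroup Pb, ∃ γ : MulAut Dh, γ ∈ F.autGroup Dh ∧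
      ∀ y : Pb, γ (Subgroup.inclusion hPbD y) = Subgroup.inclusion hPbD (α y) := by
    intro α hα
    have hα₀ : (MulAut.congr eP).symm α ∈ F.autGroup P := congr_mem (equiv_symm_mem hePm) hα
    obtain ⟨-, χ₀, hχ₀, hχ₀x⟩ := h.hasExt hPc htop hα₀
    obtain ⟨γ₀, hγ₀, hγ₀x⟩ := exists_aut_of_hom' F hχ₀ (ext_apply_mem hS hP hχ₀ hχ₀x)
    refine ⟨MulAut.congr e' γ₀, congr_mem he' hγ₀, fun y => ?_⟩
    obtain ⟨x, rfl⟩ := eP.surjective y
    show e' (γ₀ (e'.symm (Subgroup.inclusion hPbD (eP x)))) = _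
    have hx : e'.symm (Subgroup.inclusion hPbD (eP x)) = Subgroup.inclusion hPD x :=
      e'.symm_apply_eq.mpr (he'P x).symm
    rw [hx]
    have : γ₀ (Subgroup.inclusion hPD x) = Subgroup.inclusion hPD ((MulAut.congr eP).symm α x) :=
      Subtype.ext ((hγ₀x _).trans (hχ₀x x _))
    rw [this, he'P]
    congr 1
    show eP (eP.symm (α (eP x))) = _
    rw [MulEquiv.apply_symm_apply]
  -- `Pb` is fully automized
  haveI := finite_mulAut (P := Dh)
  haveI := finite_mulAut (P := Pb)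
  set G₁ := F.autGroup Dh ⊓ stab Dh Pb with hG₁
  set M := autInducedBy S Dh ⊓ stab Dh Pb with hM
  have hMG : M ≤ G₁ := inf_le_inf_right _ (autInducedBy_le_autGroup F hDhS)
  let ρ : G₁ →* MulAut Pb := (stabRes hPbD).comp (Subgroup.inclusion inf_le_right)
  have hρr : ρ.range = F.autGroup Pb := by
    apply le_antisymm
    · rintro _ ⟨v, rfl⟩
      exact stabRes_mem_autGroup hPbD hDhS _ v.2.1
    · intro α hα
      obtain ⟨γ, hγ, hγx⟩ := hextPb α hα
      obtain ⟨hγs, hres⟩ := stab_of_res hPbD α hγx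
      exact ⟨⟨γ, hγ, hγs⟩, hres⟩
  have hMcard : Nat.card (M.subgroupOf G₁) = p ^ (Nat.card G₁).factorization p := by
    rw [Nat.card_congr (Subgroup.subgroupOfEquivOfLe hMG).toEquiv]
    exact hecard
  have hTle : autInducedBy S Pb ≤ F.autGroup Pb := autInducedBy_le_autGroup F hPbS
  have hres : ∀ (v : stab Dh Pb), (v : MulAut Dh) ∈ autInducedBy S Dh →
      stabRes hPbD v ∈ autInducedBy S Pb := by
    intro v hv
    obtain ⟨s, hs, hsx⟩ := mem_autInducedBy_iff.mp hv
    exact mem_autInducedBy_iff.mpr ⟨s, hs, fun y => (stabRes_apply hPbD v y).trans (hsx _)⟩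
  have hTcard : Nat.card (autInducedBy S Pb) = p ^ (Nat.card (F.autGroup Pb)).factorization p := by
    refine le_antisymm (card_le_sylow_card_of_le hTle (isPGroup_autInducedBy hS Pb)) ?_
    set T := (Sylow.ofCard (p := p) (M.subgroupOf G₁) hMcard).mapSurjective
      ρ.rangeRestrict_surjective with hT
    have := T.card_eq_multiplicity
    have hcr : Nat.card ρ.range = Nat.card (F.autGroup Pb) := by rw [hρr]
    rw [hcr] at this
    rw [← this, hT, Sylow.coe_mapSurjective, Sylow.coe_ofCard,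
      ← Subgroup.card_map_of_injective ρ.range.subtype_injective, Subgroup.map_map,
      MonoidHom.subtype_comp_rangeRestrict]
    refine Subgroup.card_le_of_le ?_
    rintro _ ⟨v, hv, rfl⟩
    exact hres _ hv.1
  have hauto : F.IsFullyAutomized p Pb := by
    refine ⟨hPbS, Sylow.ofCard ((autInducedBy S Pb).subgroupOf (F.autGroup Pb)) ?_, rfl⟩
    rwa [Nat.card_congr (Subgroup.subgroupOfEquivOfLe hTle).toEquiv]
  -- `Pb` is receptive
  refine ⟨Pb, hPbc, hauto, hPbS, fun B φ hφ hφr => ?_⟩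
  have hBPb : F.IsConj B Pb := ⟨φ, hφ, hφr⟩
  have hBc : F.IsConj P₀ B :=
    CfsgLib.Alperin.IsConj.trans hPbc (CfsgLib.Alperin.IsConj.symm hBPb)
  have hBS := CfsgLib.Alperin.IsConj.right_le hBc
  obtain ⟨f, hf, hfm⟩ := (htop B hBc).trans hBS hfull
  obtain ⟨fB, hfBm, hfBx⟩ := exists_iso hf (le_normalizerIn hBS) hfm
  set eφ := isoOfHom φ (F.injective_of_mem hφ) hφr with heφ
  set α : MulAut Pb := fB.symm.trans eφ with hαdef
  have hα : α ∈ F.autGroup Pb :=
    (mem_autGroup_iff F hPbS).mpr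
      (comp_mem_apply (equiv_symm_mem hfBm) hφ (fun y => (fB.symm y).2) fun y => rfl)
  obtain ⟨γ, hγ, hγx⟩ := hextPb α hα
  obtain ⟨hγs, hγres⟩ := stab_of_res hPbD α hγx
  set N := ((extender S B φ).subgroupOf (normalizerIn S B)).map f with hN
  have hNN : N ≤ normalizerIn S Pb := by
    rintro _ ⟨m, -, rfl⟩
    exact apply_mem_normalizerIn hf (le_normalizerIn hBS) hfm m m.2.2
  set M₀ := F.autGroup Dh ⊓
    ((autInducedBy S Pb).comap (stabRes hPbD)).map (stab Dh Pb).subtype with hM₀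
  have hMM₀ : M ≤ M₀ := fun v hv =>
    ⟨autInducedBy_le_autGroup F hDhS hv.1, ⟨v, hv.2⟩, hres ⟨v, hv.2⟩ hv.1, rfl⟩
  have hM₀card : Nat.card M = p ^ (Nat.card M₀).factorization p := by
    refine le_antisymm (card_le_sylow_card_of_le hMM₀
      ((isPGroup_autInducedBy hS Dh).to_le inf_le_left)) ?_
    rw [hecard]
    refine Nat.pow_le_pow_right (Fact.out (p := p.Prime)).pos
      ((Nat.factorization_le_iff_dvd Nat.card_pos.ne' Nat.card_pos.ne').mpr
        (Subgroup.card_dvd_of_le (inf_le_inf_left _ (Subgroup.map_subtype_le _))) p)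
  set B₁ := (autInducedBy N Dh).map (MulAut.conj γ).toMonoidHom with hB₁
  have hB₁M : B₁ ≤ M₀ := by
    rintro _ ⟨b, hb, rfl⟩
    obtain ⟨n, hn, hnx⟩ := mem_autInducedBy_iff.mp hb
    have hnS : n ∈ S := (hNN hn).1
    have hbA : b ∈ F.autGroup Dh :=
      autInducedBy_le_autGroup F hDhS (mem_autInducedBy_iff.mpr ⟨n, hnS, hnx⟩)
    refine ⟨mul_mem (mul_mem hγ hbA) (Subgroup.inv_mem _ hγ), ?_⟩
    obtain ⟨m, hm, rfl⟩ := hn
    obtain ⟨-, -, s, hs, hsx⟩ := mem_extender_iff.mp hm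
    have hbs : b ∈ stab Dh Pb := fun z => by
      rw [hnx]
      exact Subgroup.mem_normalizer_iff.mp (hNN ⟨m, hm, rfl⟩).2 z
    refine ⟨⟨γ, hγs⟩ * ⟨b, hbs⟩ * ⟨γ, hγs⟩⁻¹, ?_, rfl⟩
    show stabRes hPbD _ ∈ autInducedBy S Pb
    rw [map_mul, map_mul, map_inv, hγres]
    refine mem_autInducedBy_iff.mpr ⟨s, hs, fun y => ?_⟩
    obtain ⟨x, rfl⟩ := (fB.trans α).surjective y
    have hmx : (m : Ω) * x * (m : Ω)⁻¹ ∈ B := mem_normalizer_conj m.2.2 x.2
    have h1 : stabRes hPbD ⟨b, hbs⟩ (fB x) = fB ⟨_, hmx⟩ := by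
      refine Subtype.ext ?_
      rw [stabRes_apply, hnx, Subgroup.coe_inclusion, hfBx, hfBx,
        show Subgroup.inclusion (le_normalizerIn hBS) ⟨_, hmx⟩ =
          m * Subgroup.inclusion (le_normalizerIn hBS) x * m⁻¹ from Subtype.ext rfl]
      simp
    simp only [MulAut.mul_apply, MulEquiv.trans_apply, MulAut.inv_apply_self]
    rw [h1]
    simp only [hαdef, MulEquiv.trans_apply, MulEquiv.symm_apply_apply]
    exact hsx x hmx
  obtain ⟨m, hm, hmB⟩ := exists_conj_le hMM₀ hM₀card hB₁M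
    (((isPGroup_autInducedBy (isPGroup_of_le hS (hNN.trans (normalizerIn_le S Pb))) Dh)).map _)
  obtain ⟨hm'F, m', hm', rfl⟩ := hm
  obtain ⟨s, hs, hsx⟩ := mem_autInducedBy_iff.mp hm'
  have hsN : s ∈ normalizerIn S Pb := ⟨hs, normalizer_of_induced hsx⟩
  set c := conjAut Dh s (hDhn hsN) with hc
  have hcS : c ∈ autInducedBy S Dh := conjAut_mem hs _
  set γ' := c⁻¹ * (m' : MulAut Dh) * γ with hγ'
  have hγ'F : γ' ∈ F.autGroup Dh :=
    mul_mem (mul_mem (inv_mem (autInducedBy_le_autGroup F hDhS hcS)) hm'F) hγ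
  have hγ'x : ∀ y : Pb, γ' (Subgroup.inclusion hPbD y) = Subgroup.inclusion hPbD (α y) := by
    intro y
    rw [hγ', MulAut.mul_apply, MulAut.mul_apply, hγx]
    refine c.injective (Subtype.ext ?_)
    rw [MulAut.apply_inv_self, hc, conjAut_apply]
    exact (stabRes_apply hPbD m' (α y)).symm.trans (hsx (α y))
  obtain ⟨θ, hθ, hθx⟩ := hgood.2.2 Dh _ ((mem_autGroup_iff F hDhS).mp hγ'F) (equiv_range γ')
  have hNext : N ≤ extender S Dh (Dh.subtype.comp γ'.toMonoidHom) := by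
    intro n hn
    have hnN := hNN hn
    set b := conjAut Dh n (hDhn hnN)
    have h1 : (m' : MulAut Dh) * (γ * b * γ⁻¹) * (m' : MulAut Dh)⁻¹ ∈ autInducedBy S Dh :=
      (hmB _ ⟨b, conjAut_mem hn _, rfl⟩).1
    have h2 : γ' * b * γ'⁻¹ ∈ autInducedBy S Dh := by
      have := mul_mem (mul_mem (inv_mem hcS) h1) hcS
      convert this using 1
      rw [hγ']
      group
    obtain ⟨r, hr, hrx⟩ := mem_autInducedBy_iff.mp h2
    refine mem_extender_iff.mpr ⟨hnN.1, hDhn hnN, r, hr, fun x hx => ?_⟩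
    refine Eq.trans ?_ (hrx (γ' x))
    rw [MulAut.mul_apply, MulAut.mul_apply, MulAut.inv_apply_self]
    rfl
  have hext := extender_le_normalizerIn (S := S) B φ
  have hval : ∀ x, (f.comp (Subgroup.inclusion hext)) x ∈
      extender S Dh (Dh.subtype.comp γ'.toMonoidHom) :=
    fun x => hNext ⟨Subgroup.inclusion hext x, x.2, rfl⟩
  refine ⟨_, F.comp_mem (restrict_mem hf hext) hθ hval, fun x hxB hxN => ?_⟩
  have hfx : f (Subgroup.inclusion hext ⟨x, hxN⟩) = (fB ⟨x, hxB⟩ : Ω) := by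
    rw [hfBx]
    rfl
  rw [MonoidHom.comp_apply,
    show (f.comp (Subgroup.inclusion hext)).codRestrict _ hval ⟨x, hxN⟩ =
      ⟨(fB ⟨x, hxB⟩ : Ω), hfx ▸ hval ⟨x, hxN⟩⟩ from Subtype.ext hfx,
    hθx _ (hPbD (fB ⟨x, hxB⟩).2)]
  show ((γ' (Subgroup.inclusion hPbD (fB ⟨x, hxB⟩)) : Dh) : Ω) = _
  rw [hγ'x, hαdef, MulEquiv.trans_apply, MulEquiv.symm_apply_apply]
  rfl

/-- Saturation criterion. -/
theorem isSaturated_of_family (hS : IsPGroup p S) (F : FusionSystem S) (ℋ : Set (Subgroup Ω))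
    (hℋconj : ∀ P ∈ ℋ, ∀ Q, F.IsConj P Q → Q ∈ ℋ)
    (hsat : ∀ P ∈ ℋ, ∃ Q, F.IsConj P Q ∧ F.IsFullyAutomized p Q ∧ F.IsReceptive Q)
    (hgen : ∀ E : FusionSystem S, (∀ P ∈ ℋ, F.Hom P ⊆ E.Hom P) → F ≤ E)
    (hstar : ∀ P : Subgroup Ω, F.IsCentric P → P ∉ ℋ → ∃ Q, F.IsConj P Q ∧
      ¬ (autInducedBy S Q ⊓ autCore F p Q ≤ Inn Q)) : F.IsSaturated p := by
  have hSℋ : S ∈ ℋ := by
    by_contra hnot
    obtain ⟨Q, hQ, hn⟩ := hstar S (isCentric_top F) hnot
    obtain rfl := eq_self_of_isConj hQ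
    refine hn (inf_le_left.trans fun β hβ => ?_)
    obtain ⟨g, hg, hgx⟩ := mem_autInducedBy_iff.mp hβ
    exact ⟨⟨g, hg⟩, MulEquiv.ext fun x => Subtype.ext (hgx x).symm⟩
  suffices H : ∀ (d : ℕ) (P : Subgroup Ω), P ≤ S → Nat.card S - Nat.card P = d →
      ∃ Q, F.IsConj P Q ∧ IsGood F p Q from fun P hP => H _ P hP rfl
  intro d
  induction d using Nat.strong_induction_on with
  | _ d ih =>
  intro P hP hd
  by_cases hPℋ : P ∈ ℋ
  · exact hsat P hPℋ
  have hcrit : CritData F p ℋ P :=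
    { isPGroup := hS
      le_top := hP
      ne_top := fun e => hPℋ (e ▸ hSℋ)
      notMem := fun A hA hAℋ => hPℋ (hℋconj A hAℋ P (CfsgLib.Alperin.IsConj.symm hA))
      big := fun R hR hlt => by
        have := Subgroup.card_le_of_le hR
        exact ih (Nat.card S - Nat.card R) (by omega) R hR rfl
      gen := hgen }
  exact hcrit.exists_isGood hstar

end CfsgLib.FusionBasics
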