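import Cfsg.Agent.Lib.FusionBasics.Criterion.Tools
import Cfsg.Agent.Lib.Cores.PCore

/-! The elements of `N_S(A)` inducing elements of the `p`-core of the automizer of `A`. -/

set_option autoImplicit false
set_option linter.style.haveILetI false

namespace CfsgLib.FusionBasics

open Cfsg Cfsg.FusionSystem CfsgLib.Alperin

variable {Ω : Type*} [Group Ω] {S : Subgroup Ω}

/-- The `p`-core of the automizer, inside the full automorphism group. -/
def autCore (F : FusionSystem S) (p : ℕ) (A : Subgroup Ω) : Subgroup (MulAut A) :=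
  (pCore p (F.autGroup A)).map (F.autGroup A).subtype

/-- The elements of `S` inducing on `A` an element of `autCore`. -/
def coreNorm (F : FusionSystem S) (p : ℕ) (A : Subgroup Ω) : Subgroup Ω :=
  normL S A (autCore F p A)

variable {p : ℕ}

theorem map_pCore_subtype {G H : Type*} [Group G] [Group H] (f : G →* H) (hf : Function.Injective f)
    {A : Subgroup G} {B : Subgroup H} (h : A.map f = B) :
    ((pCore p A).map A.subtype).map f = (pCore p B).map B.subtype := by
  subst h
  rw [← CfsgLib.Cores.map_pCore_equiv (A.equivMapOfInjective f hf), Subgroup.map_map,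
    Subgroup.map_map]
  congr 1

theorem isPGroup_autCore (F : FusionSystem S) (p : ℕ) (A : Subgroup Ω) :
    IsPGroup p (autCore F p A) := (CfsgLib.Cores.isPGroup_pCore p _).map _

theorem autCore_le (F : FusionSystem S) (p : ℕ) (A : Subgroup Ω) :
    autCore F p A ≤ F.autGroup A := Subgroup.map_subtype_le _

theorem map_autCore {F : FusionSystem S} {A B : Subgroup Ω} {e : A ≃* B}
    (he : B.subtype.comp e.toMonoidHom ∈ F.Hom A) :
    (autCore F p A).map (MulAut.congr e).toMonoidHom = autCore F p B :=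
  map_pCore_subtype (p := p) _ (MulAut.congr e).injective (map_autGroup_equiv he)

theorem congr_mem_autCore {F : FusionSystem S} {A B : Subgroup Ω} {e : A ≃* B}
    (he : B.subtype.comp e.toMonoidHom ∈ F.Hom A) {β : MulAut A} (hβ : β ∈ autCore F p A) :
    MulAut.congr e β ∈ autCore F p B :=
  (map_autCore he).le ⟨β, hβ, rfl⟩

theorem conj_mem_autCore {F : FusionSystem S} {A : Subgroup Ω} {α β : MulAut A}
    (hα : α ∈ F.autGroup A) (hβ : β ∈ autCore F p A) : α * β * α⁻¹ ∈ autCore F p A := by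
  obtain ⟨b, hb, rfl⟩ := hβ
  exact ⟨⟨α, hα⟩ * b * ⟨α, hα⟩⁻¹, Subgroup.Normal.conj_mem inferInstance b hb _, rfl⟩

theorem inn_le_autCore [Finite S] (hS : IsPGroup p S) (F : FusionSystem S) {A : Subgroup Ω}
    (hA : A ≤ S) : Inn A ≤ autCore F p A := by
  intro β hβ
  have hle := inn_le_autGroup F hA
  haveI : ((Inn A).subgroupOf (F.autGroup A)).Normal := by
    refine ⟨fun n hn a => ?_⟩
    obtain ⟨x, hx⟩ := Subgroup.mem_subgroupOf.mp hn
    refine Subgroup.mem_subgroupOf.mpr ⟨(a : MulAut A) x, MulEquiv.ext fun y => ?_⟩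
    simp [← hx, MulAut.conj_apply]
  exact ⟨⟨β, hle hβ⟩, CfsgLib.Cores.le_pCore (IsPGroup.comap_subtype
    ((isPGroup_of_le hS hA).of_surjective (MulAut.conj : A →* MulAut A).rangeRestrict
      (MulAut.conj : A →* MulAut A).rangeRestrict_surjective))
    (Subgroup.mem_subgroupOf.mpr hβ), rfl⟩

/-- The isomorphism obtained by restricting a map. -/
theorem exists_iso {F : FusionSystem S} {R A B : Subgroup Ω} {φ : R →* Ω} (hφ : φ ∈ F.Hom R)
    (hAR : A ≤ R) (hB : (A.subgroupOf R).map φ = B) :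
    ∃ e : A ≃* B, B.subtype.comp e.toMonoidHom ∈ F.Hom A ∧
      ∀ x : A, (e x : Ω) = φ (Subgroup.inclusion hAR x) :=
  ⟨isoOfHom _ (F.injective_of_mem (restrict_mem hφ hAR)) ((range_comp_inclusion _ _).trans hB),
    mem_of_apply_eq (restrict_mem hφ hAR) fun _ => rfl, fun _ => rfl⟩

theorem congr_conjAut {R A B : Subgroup Ω} {φ : R →* Ω} (hAR : A ≤ R) {e : A ≃* B}
    (he : ∀ x : A, (e x : Ω) = φ (Subgroup.inclusion hAR x)) (g : R)
    (hg : (g : Ω) ∈ Subgroup.normalizer (A : Set Ω)) (y : B) :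
    ((MulAut.congr e (conjAut A g hg) y : B) : Ω) = φ g * y * (φ g)⁻¹ := by
  obtain ⟨x, rfl⟩ := e.surjective y
  show (e (conjAut A g hg (e.symm (e x))) : Ω) = _
  rw [MulEquiv.symm_apply_apply, he, he]
  rw [show Subgroup.inclusion hAR (conjAut A g hg x) = g * Subgroup.inclusion hAR x * g⁻¹ from
    Subtype.ext rfl]
  simp

theorem coreNorm_le (F : FusionSystem S) (p : ℕ) (A : Subgroup Ω) :
    coreNorm F p A ≤ normalizerIn S A := normL_le_normalizerIn _ _ _

theorem centralizerIn_le_coreNorm (F : FusionSystem S) (p : ℕ) (A : Subgroup Ω) :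
    centralizerIn S A ≤ coreNorm F p A := centralizerIn_le_normL _ _ _

theorem le_coreNorm [Finite S] (hS : IsPGroup p S) (F : FusionSystem S) {A : Subgroup Ω}
    (hA : A ≤ S) : A ≤ coreNorm F p A := fun g hg =>
  ⟨hA hg, MulAut.conj ⟨g, hg⟩, inn_le_autCore hS F hA ⟨_, rfl⟩, fun _ => rfl⟩

theorem mem_coreNorm_iff {F : FusionSystem S} {A : Subgroup Ω} {g : Ω} :
    g ∈ coreNorm F p A ↔
      g ∈ S ∧ ∃ hg : g ∈ Subgroup.normalizer (A : Set Ω), conjAut A g hg ∈ autCore F p A := by
  constructor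
  · rintro ⟨hgS, β, hβ, hx⟩
    refine ⟨hgS, normalizer_of_induced hx, ?_⟩
    rwa [show conjAut A g _ = β from MulEquiv.ext fun x => Subtype.ext (hx x).symm]
  · rintro ⟨hgS, hg, h⟩
    exact ⟨hgS, _, h, fun x => rfl⟩

/-- A map of the system carrying `A` onto `B` carries `coreNorm` into `coreNorm`. -/
theorem apply_mem_coreNorm {F : FusionSystem S} {R A B : Subgroup Ω} {φ : R →* Ω}
    (hφ : φ ∈ F.Hom R) (hAR : A ≤ R) (hB : (A.subgroupOf R).map φ = B) (g : R)
    (hg : (g : Ω) ∈ coreNorm F p A) : φ g ∈ coreNorm F p B := by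
  obtain ⟨-, hgN, hgK⟩ := mem_coreNorm_iff.mp hg
  obtain ⟨e, he, hex⟩ := exists_iso hφ hAR hB
  exact ⟨apply_mem hφ g, _, congr_mem_autCore he hgK, congr_conjAut hAR hex g hgN⟩

/-- `coreNorm` is normalized by `N_S(A)`. -/
theorem normalizerIn_le_normalizer_coreNorm [Finite S] (F : FusionSystem S) (p : ℕ)
    {A : Subgroup Ω} (hA : A ≤ S) :
    normalizerIn S A ≤ Subgroup.normalizer (coreNorm F p A : Set Ω) := by
  intro n hn
  have hle := coreNorm_le F p A
  have hmap : ∀ n ∈ normalizerIn S A, ∀ g ∈ coreNorm F p A, n * g * n⁻¹ ∈ coreNorm F p A := by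
    intro n hn g hg
    refine apply_mem_coreNorm (R := normalizerIn S A) (φ := conjHom (normalizerIn S A) n)
      (F.conj_mem (normalizerIn_le S A) hn.1) (le_normalizerIn hA) ?_ ⟨g, hle hg⟩ hg
    ext y
    constructor
    · rintro ⟨w, hw, rfl⟩
      exact mem_normalizer_conj hn.2 hw
    · intro hy
      refine ⟨⟨n⁻¹ * y * n, le_normalizerIn hA ?_⟩, ?_, ?_⟩
      · simpa using mem_normalizer_conj (Subgroup.inv_mem _ hn.2) hy
      · simpa [Subgroup.mem_subgroupOf] using mem_normalizer_conj (Subgroup.inv_mem _ hn.2) hy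
      · simp [conjHom_apply, mul_assoc]
  refine Subgroup.mem_normalizer_iff.mpr fun g => ⟨hmap n hn g, fun h => ?_⟩
  simpa [mul_assoc] using hmap n⁻¹ ((normalizerIn S A).inv_mem hn) _ h

end CfsgLib.FusionBasics
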