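import Cfsg.Agent.Lib.FusionBasics.Criterion.Link
import Cfsg.Agent.Lib.FusionBasics.Criterion.DGroup

/-!
Saturation criterion, second part: automorphisms of the top member `P` that extend to a larger
source extend to `coreNorm F p P`.
-/

set_option autoImplicit false
set_option linter.style.haveILetI false

namespace CfsgLib.FusionBasics

open Cfsg Cfsg.FusionSystem CfsgLib.Alperin
open scoped Pointwise

variable {Ω : Type*} [Group Ω] {S : Subgroup Ω}

/-- An automorphism of `P` in the system extending to a map on `D`. -/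
def HasExt (F : FusionSystem S) (P D : Subgroup Ω) (α : MulAut P) : Prop :=
  α ∈ F.autGroup P ∧ ∃ χ ∈ F.Hom D, ∀ (x : P) (hx : (x : Ω) ∈ D), χ ⟨x, hx⟩ = ((α x : P) : Ω)

variable {p : ℕ} {F : FusionSystem S} {P : Subgroup Ω}

theorem map_eq_of_apply {R A B : Subgroup Ω} {φ : R →* Ω} (hAR : A ≤ R) {e : A ≃* B}
    (he : ∀ x : A, φ (Subgroup.inclusion hAR x) = (e x : Ω)) : (A.subgroupOf R).map φ = B := by
  ext y
  constructor
  · rintro ⟨w, hw, rfl⟩
    rw [show w = Subgroup.inclusion hAR ⟨w, hw⟩ from rfl, he]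
    exact (e _).2
  · intro hy
    obtain ⟨x, hx⟩ := e.surjective ⟨y, hy⟩
    exact ⟨Subgroup.inclusion hAR x, x.2, by rw [he, hx]⟩

theorem apply_mem_of_map_le {R A B : Subgroup Ω} {φ : R →* Ω} (hinj : Function.Injective φ)
    (hB : (A.subgroupOf R).map φ = B) {g : R} (hg : φ g ∈ B) : (g : Ω) ∈ A := by
  obtain ⟨w, hw, hwg⟩ := hB.ge hg
  obtain rfl := hinj hwg
  exact hw

section Basic

variable [Finite S] (hS : IsPGroup p S) (hP : P ≤ S)
include hS hP

theorem hasExt_one : HasExt F P (coreNorm F p P) 1 :=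
  ⟨one_mem _, _, incl_mem F ((coreNorm_le F p P).trans (normalizerIn_le S P)), fun _ _ => rfl⟩

theorem ext_apply_mem {α : MulAut P} {χ : coreNorm F p P →* Ω}
    (hχ : χ ∈ F.Hom (coreNorm F p P))
    (hx : ∀ (x : P) (hx : (x : Ω) ∈ coreNorm F p P), χ ⟨x, hx⟩ = ((α x : P) : Ω))
    (g : coreNorm F p P) : χ g ∈ coreNorm F p P :=
  apply_mem_coreNorm hχ (le_coreNorm hS F hP)
    (map_eq_of_apply (le_coreNorm hS F hP) (e := α) fun x => hx x _) g g.2

theorem hasExt_mul {α β : MulAut P} (hα : HasExt F P (coreNorm F p P) α)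
    (hβ : HasExt F P (coreNorm F p P) β) : HasExt F P (coreNorm F p P) (α * β) := by
  obtain ⟨ha, χ, hχ, hχx⟩ := hα
  obtain ⟨hb, θ, hθ, hθx⟩ := hβ
  refine ⟨mul_mem ha hb, _, F.comp_mem hθ hχ (ext_apply_mem hS hP hθ hθx), fun x hx => ?_⟩
  rw [MonoidHom.comp_apply]
  have : θ.codRestrict _ (ext_apply_mem hS hP hθ hθx) ⟨x, hx⟩ =
      ⟨(β x : Ω), le_coreNorm hS F hP (β x).2⟩ := Subtype.ext (hθx x hx)
  rw [this, hχx]
  rfl

theorem hasExt_inv {α : MulAut P} (hα : HasExt F P (coreNorm F p P) α) :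
    HasExt F P (coreNorm F p P) α⁻¹ := by
  obtain ⟨ha, χ, hχ, hχx⟩ := hα
  have hD : coreNorm F p P ≤ S := (coreNorm_le F p P).trans (normalizerIn_le S P)
  haveI := finite_of_le hD
  have hr : χ.range = coreNorm F p P := by
    refine Subgroup.eq_of_le_of_card_ge ?_ (card_range_eq (F.injective_of_mem hχ)).ge
    rintro _ ⟨g, rfl⟩
    exact ext_apply_mem hS hP hχ hχx g
  obtain ⟨ψ, hψ, -, h1, -⟩ := exists_inverse hχ hr
  refine ⟨inv_mem ha, ψ, hψ, fun x hx => ?_⟩
  have h2 := hχx (α⁻¹ x) (le_coreNorm hS F hP (α⁻¹ x).2)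
  rw [MulAut.apply_inv_self] at h2
  rw [show (⟨(x : Ω), hx⟩ : coreNorm F p P) =
    ⟨χ ⟨((α⁻¹ x : P) : Ω), le_coreNorm hS F hP (α⁻¹ x).2⟩, by rw [h2]; exact hx⟩ from
      Subtype.ext h2.symm, h1]

theorem hasExt_of_induced {α : MulAut P} {n : Ω} (hn : n ∈ S)
    (hx : ∀ x : P, ((α x : P) : Ω) = n * x * n⁻¹) : HasExt F P (coreNorm F p P) α :=
  ⟨autInducedBy_le_autGroup F hP (mem_autInducedBy_iff.mpr ⟨n, hn, hx⟩), _,
    F.conj_mem ((coreNorm_le F p P).trans (normalizerIn_le S P)) hn, fun x _ => (hx x).symm⟩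

omit hS hP in
theorem sup_lt_normalizer {p : ℕ} [Fact p.Prime] (hS : IsPGroup p S) {D Q N : Subgroup Ω}
    (hN : N ≤ S) (hD : D ≤ N) (hQ : Q ≤ N) (hnorm : N ≤ Subgroup.normalizer (D : Set Ω))
    (hDQ : ¬ D ≤ Q) :
    Q < (D ⊓ Subgroup.normalizer (Q : Set Ω)) ⊔ Q := by
  refine lt_of_le_of_ne le_sup_right fun e => ?_
  have hlt : Q < D ⊔ Q := lt_of_le_of_ne le_sup_right fun e' => hDQ (le_sup_left.trans e'.ge)
  obtain ⟨g, hg, hgN, hgQ⟩ := CfsgLib.FusionSub.exists_mem_normalizer_not_mem hS hlt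
    ((sup_le hD hQ).trans hN)
  obtain ⟨d, hd, r, hr, rfl⟩ : g ∈ (D : Set Ω) * (Q : Set Ω) := by
    rw [← Subgroup.coe_mul_of_right_le_normalizer_left D Q (hQ.trans hnorm)]
    exact hg
  refine hgQ (Q.mul_mem (e.ge (Subgroup.mem_sup_left ⟨hd, ?_⟩)) hr)
  simpa using mul_mem hgN (inv_mem (Subgroup.le_normalizer hr))

end Basic

section Step

variable [Fact p.Prime] [Finite S]

theorem map_eq_range_of_sylow {G H : Type*} [Group G] [Finite G] [Group H] (f : G →* H)
    (hf : IsPGroup p f.range) {M : Subgroup G}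
    (hM : Nat.card M = p ^ (Nat.card G).factorization p) : M.map f = f.range := by
  set T : Sylow p G := Sylow.ofCard M hM with hT
  haveI : Finite f.range := Finite.of_surjective _ f.rangeRestrict_surjective
  obtain ⟨k, hk⟩ := hf.index (M.map f.rangeRestrict)
  have hdvd : (M.map f.rangeRestrict).index ∣ (T : Subgroup G).index :=
    Subgroup.index_map_dvd M f.rangeRestrict_surjective
  have hk0 : k = 0 := by
    by_contra h
    exact T.not_dvd_index ((dvd_pow_self p h).trans (hk ▸ hdvd))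
  rw [hk0, pow_zero] at hk
  have htop := Subgroup.index_eq_one.mp hk
  have := congrArg (Subgroup.map f.range.subtype) htop
  rwa [Subgroup.map_map, MonoidHom.subtype_comp_rangeRestrict, ← MonoidHom.range_eq_map,
    Subgroup.range_subtype] at this

/-- An automorphism of the top member `P` extending to a source larger than `P` extends to
`coreNorm F p P`. -/
theorem CritData.hasExt_of_step {ℋ : Set (Subgroup Ω)} {P₀ : Subgroup Ω}
    (h : CritData F p ℋ P₀) (hPc : F.IsConj P₀ P)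
    (htop : ∀ A, F.IsConj P₀ A → FullMap F A P) :
    ∀ {R : Subgroup Ω} {ψ : R →* Ω} {α : MulAut P} (hPR : P ≤ R), R ≤ normalizerIn S P →
      P ≠ R → ψ ∈ F.Hom R → (∀ x : P, ψ (Subgroup.inclusion hPR x) = ((α x : P) : Ω)) →
      HasExt F P (coreNorm F p P) α := by
  suffices H : ∀ (d : ℕ) {R : Subgroup Ω} {ψ : R →* Ω} {α : MulAut P} (hPR : P ≤ R),
      Nat.card S - Nat.card R = d → R ≤ normalizerIn S P →
      P ≠ R → ψ ∈ F.Hom R → (∀ x : P, ψ (Subgroup.inclusion hPR x) = ((α x : P) : Ω)) →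
      HasExt F P (coreNorm F p P) α from fun {_ _ _} hPR => H _ hPR rfl
  intro d
  induction d using Nat.strong_induction_on with
  | _ d ih =>
  intro R ψ α hPR hd hRN hne hψ hψα
  have hS := h.isPGroup
  have hP : P ≤ S := CfsgLib.Alperin.IsConj.right_le hPc
  set D := coreNorm F p P with hD
  have hPD : P ≤ D := le_coreNorm hS F hP
  have hDN : D ≤ normalizerIn S P := coreNorm_le F p P
  have hND := normalizerIn_le_normalizer_coreNorm F p hP
  have hα : α ∈ F.autGroup P :=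
    (mem_autGroup_iff F hP).mpr (mem_of_apply_eq (restrict_mem hψ hPR) fun x => (hψα x).symm)
  have hRS : R ≤ S := hRN.trans (normalizerIn_le S P)
  by_cases hDR : D ≤ R
  · exact ⟨hα, _, restrict_mem hψ hDR, fun x hx => hψα x⟩
  -- the image
  set R₂ := ψ.range with hR₂
  set eψ := isoOfHom ψ (F.injective_of_mem hψ) hR₂.symm with heψ
  have hψP := map_eq_of_apply hPR hψα
  have hPR₂ : P ≤ R₂ := hψP.symm.le.trans (Subgroup.map_le_range ψ _)
  have hR₂N : R₂ ≤ normalizerIn S P := by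
    rintro _ ⟨x, rfl⟩
    exact apply_mem_normalizerIn hψ hPR hψP x (hRN x.2).2
  have hψsymm : R.subtype.comp eψ.symm.toMonoidHom ∈ F.Hom R₂ := isoOfHom_symm_mem hψ _
  have heψP : ∀ x : P, eψ.symm (Subgroup.inclusion hPR₂ (α x)) = Subgroup.inclusion hPR x := fun x =>
    eψ.injective (by rw [MulEquiv.apply_symm_apply]; exact Subtype.ext (hψα x).symm)
  by_cases hDR₂ : D ≤ R₂
  · have : HasExt F P D α⁻¹ := by
      refine ⟨inv_mem hα, _, restrict_mem hψsymm hDR₂, fun x hx => ?_⟩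
      have := heψP (α⁻¹ x)
      rw [MulAut.apply_inv_self] at this
      exact congrArg Subtype.val this
    simpa using hasExt_inv hS hP this
  -- a good conjugate of `R`
  have hcard : Nat.card P < Nat.card R :=
    CfsgLib.FusionSub.card_lt_card hRS (lt_of_le_of_ne hPR hne)
  have hbig : Nat.card P₀ < Nat.card R := by rwa [← CfsgLib.Alperin.IsConj.card_eq hPc]
  obtain ⟨R', hR', hgood⟩ := h.big R hRS hbig
  set L : Subgroup (MulAut R) :=
    ((autCore F p P).comap (stabRes hPR)).map (stab R P).subtype with hL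
  obtain ⟨e, he, hecard⟩ := exists_good_of_isGood hS hR' hgood L
  set Pb := (P.subgroupOf R).map (R'.subtype.comp e.toMonoidHom) with hPb
  obtain ⟨eP, hePmem, hePx⟩ := exists_iso he hPR hPb.symm
  have hPbc : F.IsConj P₀ Pb :=
    CfsgLib.Alperin.IsConj.trans hPc ⟨_, restrict_mem he hPR, range_comp_inclusion _ _⟩
  have hPbS := CfsgLib.Alperin.IsConj.right_le hPbc
  have hPbR' : Pb ≤ R' := by
    rintro _ ⟨x, -, rfl⟩
    exact (e x).2
  obtain ⟨f, hf, hfm⟩ := htop Pb hPbc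
  obtain ⟨fP, hfPmem, hfPx⟩ := exists_iso hf (le_normalizerIn hPbS) hfm
  set t : MulAut P := eP.trans fP with ht
  -- membership in `L`
  haveI := finite_of_le hP
  have memL : ∀ (v : MulAut R) (κ : MulAut P), κ ∈ autCore F p P →
      (∀ x : P, v (Subgroup.inclusion hPR x) = Subgroup.inclusion hPR (κ x)) → v ∈ L := by
    intro v κ hκ hv
    have hst : v ∈ stab R P := by
      intro z
      constructor
      · intro hz
        rw [show z = Subgroup.inclusion hPR ⟨z, hz⟩ from rfl, hv]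
        exact (κ ⟨z, hz⟩).2
      · intro hz
        obtain ⟨x, hx⟩ := κ.surjective ⟨_, hz⟩
        have : Subgroup.inclusion hPR x = z := v.injective (by
          rw [hv, hx]; rfl)
        rw [← this]
        exact x.2
    refine ⟨⟨v, hst⟩, ?_, rfl⟩
    show stabRes hPR ⟨v, hst⟩ ∈ autCore F p P
    have : stabRes hPR ⟨v, hst⟩ = κ := MulEquiv.ext fun x => Subtype.ext (by
      rw [stabRes_apply]
      exact congrArg Subtype.val (hv x))
    rwa [this]
  -- extension from a subgroup mapped onto `R'`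
  have extend : ∀ {Q : Subgroup Ω} (hPQ : P ≤ Q) (e₂ : Q ≃* R'), Q ≤ normalizerIn S P → ¬ D ≤ Q →
      Nat.card Q = Nat.card R → R'.subtype.comp e₂.toMonoidHom ∈ F.Hom Q →
      ∀ ξ : MulAut P, ξ ∈ F.autGroup P →
      (∀ x : P, e₂ (Subgroup.inclusion hPQ x) = e (Subgroup.inclusion hPR (ξ x))) →
      ∃ u ∈ F.autGroup R ⊓ L, ∀ κ : MulAut P,
        (∀ x : P, u (Subgroup.inclusion hPR x) = Subgroup.inclusion hPR (κ x)) →
        HasExt F P D (t * κ * ξ) := by
    intro Q hPQ e₂ hQN hDQ hQR he₂ ξ hξ hξx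
    set X := D ⊓ Subgroup.normalizer (Q : Set Ω) with hX
    have hXS : X ≤ S := (inf_le_left.trans hDN).trans (normalizerIn_le S P)
    have hXR : ∀ g ∈ X, ∃ hg : g ∈ Subgroup.normalizer (Q : Set Ω),
        MulAut.congr e₂ (conjAut Q g hg) ∈ L.map (MulAut.congr e).toMonoidHom := by
      rintro g ⟨hgD, hgQ⟩
      refine ⟨hgQ, ?_⟩
      obtain ⟨-, hgN, hgK⟩ := mem_coreNorm_iff.mp hgD
      refine ⟨(MulAut.congr e).symm (MulAut.congr e₂ (conjAut Q g hgQ)), ?_,
        (MulAut.congr e).apply_symm_apply _⟩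
      refine memL _ (ξ * conjAut P g hgN * ξ⁻¹) (conj_mem_autCore hξ hgK) fun x => ?_
      show e.symm (e₂ (conjAut Q g hgQ (e₂.symm (e (Subgroup.inclusion hPR x))))) = _
      have h1 : e₂.symm (e (Subgroup.inclusion hPR x)) = Subgroup.inclusion hPQ (ξ⁻¹ x) := by
        rw [MulEquiv.symm_apply_eq, hξx, MulAut.apply_inv_self]
      have h2 : conjAut Q g hgQ (Subgroup.inclusion hPQ (ξ⁻¹ x)) =
          Subgroup.inclusion hPQ (conjAut P g hgN (ξ⁻¹ x)) := Subtype.ext rfl
      rw [h1, h2, hξx, MulEquiv.symm_apply_apply]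
      rfl
    obtain ⟨u, hu, χ, hχ, hχx⟩ := exists_extend hS hgood.2 hecard he₂ hXS hXR
    obtain ⟨hu1, v, hv, hvu⟩ := hu
    have hvR : v ∈ F.autGroup R := by
      obtain ⟨v', hv', hv'u⟩ := (map_autGroup_equiv he).ge hu1
      obtain rfl : v' = v := (MulAut.congr e).injective (hv'u.trans hvu.symm)
      exact hv'
    refine ⟨v, ⟨hvR, hv⟩, fun κ hκ => ?_⟩
    have hPW : P ≤ X ⊔ Q := hPQ.trans le_sup_right
    have hWN : X ⊔ Q ≤ normalizerIn S P := sup_le (inf_le_left.trans hDN) hQN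
    have hχP : ∀ x : P, χ (Subgroup.inclusion hPW x) = (eP (κ (ξ x)) : Ω) := by
      intro x
      rw [show Subgroup.inclusion hPW x =
        Subgroup.inclusion le_sup_right (Subgroup.inclusion hPQ x) from rfl, hχx, hξx, hePx, ← hvu]
      show (e (v (e.symm (e _))) : Ω) = _
      rw [MulEquiv.symm_apply_apply, hκ]
      rfl
    have hχm : (P.subgroupOf (X ⊔ Q)).map χ = Pb :=
      map_eq_of_apply hPW (e := (ξ.trans κ).trans eP) hχP
    have hval : ∀ w, χ w ∈ normalizerIn S Pb := fun w =>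
      apply_mem_normalizerIn hχ hPW hχm w (hWN w.2).2
    have hlt : Q < X ⊔ Q := sup_lt_normalizer hS (normalizerIn_le S P) hDN hQN hND hDQ
    have hltc := CfsgLib.FusionSub.card_lt_card (hWN.trans (normalizerIn_le S P)) hlt
    have hle := Subgroup.card_le_of_le (hWN.trans (normalizerIn_le S P))
    refine ih (Nat.card S - Nat.card ↥(X ⊔ Q)) (by omega) hPW rfl hWN (fun e' => ?_)
      (F.comp_mem hχ hf hval) fun x => ?_
    · rw [← e'] at hltc
      omega
    · show f _ = ((t (κ (ξ x)) : P) : Ω)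
      rw [ht, MulEquiv.trans_apply, hfPx]
      exact congrArg f (Subtype.ext (hχP x))
  obtain ⟨v₁, hv₁, hext₁⟩ := extend hPR e hRN hDR rfl he 1 (one_mem _) fun x => rfl
  obtain ⟨v₂, hv₂, hext₂⟩ := extend hPR₂ (eψ.symm.trans e) hR₂N hDR₂
    (card_range_eq (F.injective_of_mem hψ))
    (comp_mem_apply hψsymm he (fun y => (eψ.symm y).2) fun y => rfl) α⁻¹ (inv_mem hα) fun x => by
      have := heψP (α⁻¹ x)
      rw [MulAut.apply_inv_self] at this
      rw [MulEquiv.trans_apply, this]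
  -- restriction to `P`
  set A := F.autGroup R ⊓ L with hA
  have hAst : A ≤ stab R P := inf_le_right.trans (Subgroup.map_subtype_le _)
  let ρ : A →* MulAut P := (stabRes hPR).comp (Subgroup.inclusion hAst)
  have hρx : ∀ (v : A) (x : P),
      (v : MulAut R) (Subgroup.inclusion hPR x) = Subgroup.inclusion hPR (ρ v x) :=
    fun v x => Subtype.ext rfl
  have hρp : IsPGroup p ρ.range := by
    refine (isPGroup_autCore F p P).to_le ?_
    rintro _ ⟨⟨v, hv⟩, rfl⟩
    obtain ⟨w, hw, hwv⟩ := hv.2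
    have : Subgroup.inclusion hAst ⟨v, hv⟩ = w := Subtype.ext hwv.symm
    show stabRes hPR _ ∈ _
    rw [this]
    exact hw
  haveI := finite_of_le hRS
  haveI := finite_mulAut (P := R)
  set M := ((autInducedBy S R' ⊓ L.map (MulAut.congr e).toMonoidHom).comap
    (MulAut.congr e).toMonoidHom).subgroupOf A with hM
  have hMcard : Nat.card M = p ^ (Nat.card A).factorization p := by
    have hAmap : A.map (MulAut.congr e).toMonoidHom =
        F.autGroup R' ⊓ L.map (MulAut.congr e).toMonoidHom := by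
      rw [hA, Subgroup.map_inf _ _ _ (MulAut.congr e).injective, map_autGroup_equiv he]
    have hMmap : M.map ((MulAut.congr e).toMonoidHom.comp A.subtype) =
        autInducedBy S R' ⊓ L.map (MulAut.congr e).toMonoidHom := by
      rw [← Subgroup.map_map, hM, Subgroup.subgroupOf_map_subtype,
        Subgroup.map_inf _ _ _ (MulAut.congr e).injective, hAmap,
        Subgroup.map_comap_eq_self_of_surjective (MulAut.congr e).surjective, inf_eq_left]
      exact inf_le_inf_right _ (autInducedBy_le_autGroup F hgood.2.1)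
    rw [← Subgroup.card_map_of_injective (f := (MulAut.congr e).toMonoidHom.comp A.subtype)
      (K := M) ((MulAut.congr e).injective.comp A.subtype_injective), hMmap, hecard, ← hAmap,
      Subgroup.card_map_of_injective (f := (MulAut.congr e).toMonoidHom) (MulAut.congr e).injective]
  set v : A := ⟨v₂, hv₂⟩ * ⟨v₁, hv₁⟩⁻¹ with hv
  obtain ⟨w, hwM, hwv⟩ : ρ v ∈ M.map ρ := by
    rw [map_eq_range_of_sylow ρ hρp hMcard]
    exact ⟨v, rfl⟩
  obtain ⟨s, hs, hsx⟩ := mem_autInducedBy_iff.mp hwM.1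
  have hindPb : ∀ y : Pb, ((MulAut.congr eP (ρ v) y : Pb) : Ω) = s * y * s⁻¹ := by
    intro y
    obtain ⟨x, rfl⟩ := eP.surjective y
    show (eP (ρ v (eP.symm (eP x))) : Ω) = _
    rw [MulEquiv.symm_apply_apply, hePx, hePx, ← hwv, ← hρx]
    refine Eq.trans ?_ (hsx (e (Subgroup.inclusion hPR x)))
    show _ = (e ((w : MulAut R) (e.symm (e (Subgroup.inclusion hPR x)))) : Ω)
    rw [MulEquiv.symm_apply_apply]
    rfl
  have hsN : s ∈ normalizerIn S Pb := ⟨hs, normalizer_of_induced hindPb⟩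
  have hmid : HasExt F P D (t * ρ v * t⁻¹) := by
    refine hasExt_of_induced hS hP (n := f ⟨s, hsN⟩) (apply_mem hf _) fun x => ?_
    rw [← congr_conjAut (le_normalizerIn hPbS) hfPx ⟨s, hsN⟩ hsN.2 x]
    have : conjAut Pb s hsN.2 = MulAut.congr eP (ρ v) :=
      MulEquiv.ext fun y => Subtype.ext (hindPb y).symm
    rw [this]
    rfl
  have h1 := hext₁ (ρ ⟨v₁, hv₁⟩) (hρx ⟨v₁, hv₁⟩)
  have h2 := hext₂ (ρ ⟨v₂, hv₂⟩) (hρx ⟨v₂, hv₂⟩)
  rw [mul_one] at h1
  have key : α = (t * ρ ⟨v₂, hv₂⟩ * α⁻¹)⁻¹ * (t * ρ v * t⁻¹) * (t * ρ ⟨v₁, hv₁⟩) := by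
    rw [hv, map_mul, map_inv]
    group
  rw [key]
  exact hasExt_mul hS hP (hasExt_mul hS hP (hasExt_inv hS hP h2) hmid) h1

end Step

end CfsgLib.FusionBasics
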