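import Cfsg.Agent.Lib.FusionBasics.Criterion.Tools

/-!
Saturation criterion, first part: in a system generated by a saturated family, a maximal class
outside the family has a member receiving the normalizers of all members.
-/

set_option autoImplicit false
set_option linter.style.haveILetI false

namespace CfsgLib.FusionBasics

open Cfsg Cfsg.FusionSystem CfsgLib.Alperin

variable {Ω : Type*} [Group Ω] {S : Subgroup Ω}

/-- A map on `N_S(A)` carrying `A` onto `B`. -/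
def FullMap (F : FusionSystem S) (A B : Subgroup Ω) : Prop :=
  ∃ φ ∈ F.Hom (normalizerIn S A), (A.subgroupOf (normalizerIn S A)).map φ = B

/-- No map on `N_S(M)` moves `M` to a subgroup with larger normalizer. -/
def IsTerminal (F : FusionSystem S) (M : Subgroup Ω) : Prop :=
  ∀ M', FullMap F M M' → Nat.card (normalizerIn S M') ≤ Nat.card (normalizerIn S M)

theorem FullMap.isConj {F : FusionSystem S} {A B : Subgroup Ω} (hA : A ≤ S) (h : FullMap F A B) :
    F.IsConj A B := by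
  obtain ⟨φ, hφ, hm⟩ := h
  exact ⟨_, restrict_mem hφ (le_normalizerIn hA), (range_comp_inclusion _ _).trans hm⟩

theorem FullMap.trans {F : FusionSystem S} {A B C : Subgroup Ω} (hA : A ≤ S) (h₁ : FullMap F A B)
    (h₂ : FullMap F B C) : FullMap F A C := by
  obtain ⟨φ, hφ, hm⟩ := h₁
  obtain ⟨ψ, hψ, hm'⟩ := h₂
  have hv : ∀ x, φ x ∈ normalizerIn S B := fun x =>
    apply_mem_normalizerIn hφ (le_normalizerIn hA) hm x x.2.2
  refine ⟨_, F.comp_mem hφ hψ hv, ?_⟩
  subst hm hm'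
  ext z
  constructor
  · rintro ⟨w, hw, rfl⟩
    exact ⟨⟨φ w, hv w⟩, Subgroup.mem_map_of_mem φ hw, rfl⟩
  · rintro ⟨y, ⟨w, hw, hwy⟩, rfl⟩
    exact ⟨w, hw, congrArg ψ (Subtype.ext hwy)⟩

variable [Finite S]

theorem FullMap.card_le {F : FusionSystem S} {A B : Subgroup Ω} (hA : A ≤ S) (h : FullMap F A B) :
    Nat.card (normalizerIn S A) ≤ Nat.card (normalizerIn S B) := by
  obtain ⟨φ, hφ, hm⟩ := h
  haveI := finite_of_le (normalizerIn_le S B)
  exact Nat.card_le_card_of_injective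
    (fun x => (⟨φ x, apply_mem_normalizerIn hφ (le_normalizerIn hA) hm x x.2.2⟩ : normalizerIn S B))
    fun x y h => F.injective_of_mem hφ (congrArg Subtype.val h)

theorem FullMap.symm_of_card_eq {F : FusionSystem S} {A B : Subgroup Ω} (hA : A ≤ S)
    (h : FullMap F A B) (hc : Nat.card (normalizerIn S A) = Nat.card (normalizerIn S B)) :
    FullMap F B A := by
  obtain ⟨φ, hφ, hm⟩ := h
  have hr : φ.range = normalizerIn S B := by
    haveI := finite_of_le (normalizerIn_le S B)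
    refine Subgroup.eq_of_le_of_card_ge ?_ (by rw [card_range_eq (F.injective_of_mem hφ), hc])
    rintro _ ⟨x, rfl⟩
    exact apply_mem_normalizerIn hφ (le_normalizerIn hA) hm x x.2.2
  obtain ⟨ψ, hψ, -, h1, -⟩ := exists_inverse hφ hr
  refine ⟨ψ, hψ, ?_⟩
  subst hm
  ext a
  constructor
  · rintro ⟨y, ⟨w, hw, hwy⟩, rfl⟩
    have : ψ y = (w : Ω) := (congrArg ψ (Subtype.ext hwy.symm)).trans (h1 w (hr.le ⟨w, rfl⟩))
    rw [this]
    exact hw
  · intro ha
    exact ⟨⟨φ ⟨a, le_normalizerIn hA ha⟩, hr.le ⟨_, rfl⟩⟩,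
      Subgroup.mem_map_of_mem φ (show (⟨a, le_normalizerIn hA ha⟩ : normalizerIn S A) ∈
        A.subgroupOf (normalizerIn S A) from ha), h1 _ _⟩

theorem exists_terminal (F : FusionSystem S) {A : Subgroup Ω} (hA : A ≤ S) :
    ∃ M, FullMap F A M ∧ IsTerminal F M := by
  have hself : FullMap F A A := by
    refine ⟨_, incl_mem F (normalizerIn_le S A), ?_⟩
    exact Subgroup.map_subgroupOf_eq_of_le (le_normalizerIn hA)
  have hfin : Set.Finite {M | FullMap F A M} := by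
    haveI : Finite {Q : Subgroup Ω // Q ≤ S} :=
      Finite.of_injective (fun Q : {Q : Subgroup Ω // Q ≤ S} => Q.1.subgroupOf S) fun A B h => by
        refine Subtype.ext ?_
        simpa [Subgroup.subgroupOf_map_subtype, inf_of_le_left A.2, inf_of_le_left B.2] using
          congrArg (Subgroup.map S.subtype) h
    exact (Set.toFinite (Set.range (Subtype.val : {Q : Subgroup Ω // Q ≤ S} → Subgroup Ω))).subset
      fun M hM => ⟨⟨M, CfsgLib.Alperin.IsConj.right_le (FullMap.isConj hA hM)⟩, rfl⟩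
  obtain ⟨M, hM, hmax⟩ := Set.exists_max_image _ (fun M => Nat.card (normalizerIn S M)) hfin ⟨A, hself⟩
  exact ⟨M, hM, fun M' h => hmax M' (FullMap.trans hA hM h)⟩

theorem IsTerminal.card_eq {F : FusionSystem S} {M M' : Subgroup Ω} (hM : M ≤ S)
    (h : IsTerminal F M) (hf : FullMap F M M') :
    Nat.card (normalizerIn S M) = Nat.card (normalizerIn S M') :=
  le_antisymm (hf.card_le hM) (h M' hf)

/-- The data of the criterion at a class of maximal order outside the saturated family. -/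
structure CritData (F : FusionSystem S) (p : ℕ) (ℋ : Set (Subgroup Ω)) (P₀ : Subgroup Ω) : Prop where
  isPGroup : IsPGroup p S
  le_top : P₀ ≤ S
  ne_top : P₀ ≠ S
  notMem : ∀ A, F.IsConj P₀ A → A ∉ ℋ
  big : ∀ R, R ≤ S → Nat.card P₀ < Nat.card R → ∃ R', F.IsConj R R' ∧ IsGood F p R'
  gen : ∀ E : FusionSystem S, (∀ P ∈ ℋ, F.Hom P ⊆ E.Hom P) → F ≤ E

namespace CritData

variable {F : FusionSystem S} {p : ℕ} [Fact p.Prime] {ℋ : Set (Subgroup Ω)} {P₀ : Subgroup Ω}

omit [Fact p.Prime] in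
theorem class_lt (h : CritData F p ℋ P₀) {A : Subgroup Ω} (hA : F.IsConj P₀ A) : A < S := by
  refine lt_of_le_of_ne (CfsgLib.Alperin.IsConj.right_le hA) fun e => h.ne_top ?_
  exact Subgroup.eq_of_le_of_card_ge h.le_top (by rw [← CfsgLib.Alperin.IsConj.card_eq hA, e])

/-- An isomorphism of a subgroup `R` with `M < R < N_S(M)` onto a good subgroup gives a map with
larger source. -/
theorem step_up (h : CritData F p ℋ P₀) {M Ā R R' : Subgroup Ω} (hMR : M < R)
    (hRN : R < normalizerIn S M) (hrec : F.IsReceptive R')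
    (hcard : Nat.card ↥(autInducedBy S R' ⊓ stab R' Ā) =
      p ^ (Nat.card ↥(F.autGroup R' ⊓ stab R' Ā)).factorization p)
    {e : R ≃* R'} (he : R'.subtype.comp e.toMonoidHom ∈ F.Hom R)
    (heA : (M.subgroupOf R).map (R'.subtype.comp e.toMonoidHom) = Ā) :
    ∃ (X : Subgroup Ω), M < X ∧ X ≤ normalizerIn S M ∧ Nat.card R < Nat.card X ∧
      ∃ θ ∈ F.Hom X, (M.subgroupOf X).map θ = Ā := by
  set X := normalizerIn S M ⊓ Subgroup.normalizer (R : Set Ω) with hX
  obtain ⟨g, hgN, hgR, hgn⟩ :=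
    CfsgLib.FusionSub.exists_mem_normalizer_not_mem h.isPGroup hRN (normalizerIn_le S M)
  have hRX : R < X := lt_of_le_of_ne (le_inf hRN.le Subgroup.le_normalizer)
    fun e => hgn (e.ge ⟨hgN, hgR⟩)
  have hXS : X ≤ S := inf_le_left.trans (normalizerIn_le S M)
  have hXR : ∀ g ∈ X, ∃ hg : g ∈ Subgroup.normalizer (R : Set Ω),
      MulAut.congr e (conjAut R g hg) ∈ stab R' Ā := by
    intro g hg
    refine ⟨hg.2, ?_⟩
    rw [← heA, ← stab_map]
    refine ⟨_, fun x => ?_, rfl⟩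
    exact Subgroup.mem_normalizer_iff.mp hg.1.2 x
  obtain ⟨u, hu, χ, hχ, hχx⟩ := exists_extend h.isPGroup hrec hcard he hXS hXR
  refine ⟨X, hMR.trans hRX, inf_le_left, CfsgLib.FusionSub.card_lt_card hXS hRX,
    χ.comp (Subgroup.inclusion le_sup_left), restrict_mem hχ _, ?_⟩
  subst heA
  ext y
  constructor
  · rintro ⟨w, hw, rfl⟩
    have h1 : χ (Subgroup.inclusion le_sup_left w) = ((u (e ⟨w, hMR.le hw⟩) : R') : Ω) :=
      (congrArg χ (Subtype.ext rfl)).trans (hχx ⟨w, hMR.le hw⟩)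
    show χ (Subgroup.inclusion le_sup_left w) ∈ _
    rw [h1]
    exact (hu.2 _).mp ⟨⟨w, hMR.le hw⟩, hw, rfl⟩
  · intro hy
    obtain ⟨w, hw, rfl⟩ := hy
    obtain ⟨z, hz⟩ := e.surjective (u⁻¹ (e w))
    have hzM : (z : Ω) ∈ M := by
      have h2 := ((stab R' _).inv_mem hu.2 (e w)).mp ⟨w, hw, rfl⟩
      rw [← hz] at h2
      obtain ⟨z', hz', hzz⟩ := h2
      exact (e.injective (Subtype.ext hzz) : z' = z) ▸ hz'
    refine ⟨⟨z, hRX.le z.2⟩, hzM, ?_⟩
    show χ (Subgroup.inclusion le_sup_left ⟨z, hRX.le z.2⟩) = _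
    refine ((congrArg χ (Subtype.ext rfl)).trans (hχx z)).trans ?_
    rw [hz, MulAut.apply_inv_self]
    rfl

/-- Terminal subgroups above the two ends of a step are linked. -/
theorem link (h : CritData F p ℋ P₀) : ∀ {A C M M' R : Subgroup Ω} {ψ : R →* Ω},
    F.IsConj P₀ A → A < R → R ≤ normalizerIn S A → ψ ∈ F.Hom R → (A.subgroupOf R).map ψ = C →
    FullMap F A M → IsTerminal F M → FullMap F C M' → IsTerminal F M' → FullMap F M M' := by
  suffices H : ∀ (d : ℕ) {A C M M' R : Subgroup Ω} {ψ : R →* Ω}, Nat.card S - Nat.card R = d →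
      F.IsConj P₀ A → A < R → R ≤ normalizerIn S A → ψ ∈ F.Hom R → (A.subgroupOf R).map ψ = C →
      FullMap F A M → IsTerminal F M → FullMap F C M' → IsTerminal F M' → FullMap F M M' from
    fun {_ _ _ _ _ _} => H _ rfl
  intro d
  induction d using Nat.strong_induction_on with
  | _ d ih =>
  intro A C M M' R ψ hd hA hAR hRA hψ hψA hAM hM hCM hM'
  have hAS := CfsgLib.Alperin.IsConj.right_le hA
  have hAC : F.IsConj A C :=
    ⟨_, restrict_mem hψ hAR.le, (range_comp_inclusion _ _).trans hψA⟩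
  have hCS := CfsgLib.Alperin.IsConj.right_le hAC
  have hMc : F.IsConj P₀ M := CfsgLib.Alperin.IsConj.trans hA (hAM.isConj hAS)
  have hM'c : F.IsConj P₀ M' := CfsgLib.Alperin.IsConj.trans (CfsgLib.Alperin.IsConj.trans hA hAC) (hCM.isConj hCS)
  obtain ⟨f, hf, hfA⟩ := hAM
  obtain ⟨f', hf', hf'C⟩ := hCM
  -- transfer the step to `M` and `M'`
  set f₁ := f.comp (Subgroup.inclusion hRA) with hf₁def
  have hf₁ : f₁ ∈ F.Hom R := restrict_mem hf hRA
  set R₁ := f₁.range with hR₁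
  set e₁ := isoOfHom f₁ (F.injective_of_mem hf₁) hR₁.symm with he₁
  have hψN : ∀ x : R, ψ x ∈ normalizerIn S C := fun x =>
    apply_mem_normalizerIn hψ hAR.le hψA x (hRA x.2).2
  let ψ₂ : R →* Ω := f'.comp (ψ.codRestrict _ hψN)
  have hψ₂ : ψ₂ ∈ F.Hom R := F.comp_mem hψ hf' hψN
  set R₂ := ψ₂.range with hR₂
  set e₂ := isoOfHom ψ₂ (F.injective_of_mem hψ₂) hR₂.symm with he₂
  have hR₁N : R₁ ≤ normalizerIn S M := by
    rintro _ ⟨x, rfl⟩
    exact apply_mem_normalizerIn hf (le_normalizerIn hAS) hfA _ (hRA x.2).2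
  have hR₂N : R₂ ≤ normalizerIn S M' := by
    rintro _ ⟨x, rfl⟩
    exact apply_mem_normalizerIn hf' (le_normalizerIn hCS) hf'C _ (hψN x).2
  have hMR₁ : (A.subgroupOf R).map f₁ = M := by
    rw [← hfA]
    ext y
    constructor
    · rintro ⟨w, hw, rfl⟩
      exact ⟨Subgroup.inclusion hRA w, hw, rfl⟩
    · rintro ⟨w, hw, rfl⟩
      exact ⟨⟨w, hAR.le hw⟩, hw, rfl⟩
  have hMR₂ : (A.subgroupOf R).map ψ₂ = M' := by
    rw [← hf'C]
    subst hψA
    ext y
    constructor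
    · rintro ⟨w, hw, rfl⟩
      exact ⟨⟨ψ w, hψN w⟩, Subgroup.mem_map_of_mem ψ hw, rfl⟩
    · rintro ⟨z, ⟨w, hw, hwz⟩, rfl⟩
      exact ⟨w, hw, congrArg f' (Subtype.ext hwz)⟩
  have hlt : ∀ (φ : R →* Ω), Function.Injective φ → ∀ (B : Subgroup Ω),
      (A.subgroupOf R).map φ = B → B < φ.range := by
    intro φ hφ B hB
    subst hB
    refine lt_of_le_of_ne (Subgroup.map_le_range φ _) fun e => hAR.not_ge fun x hx => ?_
    obtain ⟨w, hw, hwx⟩ := e.ge ⟨⟨x, hx⟩, rfl⟩
    have e' : w = ⟨x, hx⟩ := hφ hwx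
    subst e'
    exact hw
  have hM1 : M < R₁ := hlt f₁ (F.injective_of_mem hf₁) M hMR₁
  have hM2 : M' < R₂ := hlt ψ₂ (F.injective_of_mem hψ₂) M' hMR₂
  have hc1 : Nat.card R₁ = Nat.card R := card_range_eq (F.injective_of_mem hf₁)
  have hc2 : Nat.card R₂ = Nat.card R := card_range_eq (F.injective_of_mem hψ₂)
  -- the composite step from `M` to `M'`
  let e₁₂ : R₁ ≃* R₂ := e₁.symm.trans e₂
  have he₁₂ : R₂.subtype.comp e₁₂.toMonoidHom ∈ F.Hom R₁ :=
    comp_mem_apply (isoOfHom_symm_mem hf₁ hR₁.symm) hψ₂ (fun y => (e₁.symm y).2) fun y => rfl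
  have he₁₂M : (M.subgroupOf R₁).map (R₂.subtype.comp e₁₂.toMonoidHom) = M' := by
    rw [← hMR₂]
    ext y
    constructor
    · rintro ⟨w, hw, rfl⟩
      obtain ⟨z, rfl⟩ := e₁.surjective w
      obtain ⟨z', hz', hzz⟩ := hMR₁.ge hw
      refine ⟨z, (F.injective_of_mem hf₁ hzz : z' = z) ▸ hz', ?_⟩
      show ψ₂ z = ((e₂ (e₁.symm (e₁ z)) : R₂) : Ω)
      rw [MulEquiv.symm_apply_apply]
      rfl
    · rintro ⟨z, hz, rfl⟩
      refine ⟨e₁ z, hMR₁.le ⟨z, hz, rfl⟩, ?_⟩
      show ((e₂ (e₁.symm (e₁ z)) : R₂) : Ω) = _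
      rw [MulEquiv.symm_apply_apply]
      rfl
  rcases hR₁N.eq_or_lt with heq | hlt₁
  · have hψ' : ∀ x : normalizerIn S M, (x : Ω) ∈ R₁ := fun x => heq.ge x.2
    refine ⟨_, restrict_mem he₁₂ heq.ge, ?_⟩
    rw [← he₁₂M]
    ext y
    constructor
    · rintro ⟨w, hw, rfl⟩
      exact ⟨Subgroup.inclusion heq.ge w, hw, rfl⟩
    · rintro ⟨w, hw, rfl⟩
      exact ⟨⟨w, heq.le w.2⟩, hw, rfl⟩
  have hlt₂ : R₂ < normalizerIn S M' := by
    refine lt_of_le_of_ne hR₂N fun heq => ?_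
    have hfull : FullMap F M' M := by
      refine ⟨_, restrict_mem (equiv_symm_mem he₁₂) heq.ge, ?_⟩
      ext y
      constructor
      · rintro ⟨w, hw, rfl⟩
        obtain ⟨z, hz, hzw⟩ := he₁₂M.ge hw
        have : e₁₂.symm (Subgroup.inclusion heq.ge w) = z :=
          e₁₂.injective (by rw [MulEquiv.apply_symm_apply]; exact Subtype.ext hzw.symm)
        show ((e₁₂.symm (Subgroup.inclusion heq.ge w) : R₁) : Ω) ∈ M
        rw [this]
        exact hz
      · intro hy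
        have hyM : (e₁₂ ⟨y, hM1.le hy⟩ : Ω) ∈ M' := he₁₂M.le ⟨⟨y, hM1.le hy⟩, hy, rfl⟩
        refine ⟨⟨e₁₂ ⟨y, hM1.le hy⟩, heq.le (e₁₂ _).2⟩, hyM, ?_⟩
        show ((e₁₂.symm (e₁₂ ⟨y, hM1.le hy⟩) : R₁) : Ω) = y
        rw [MulEquiv.symm_apply_apply]
    have h1 := hM'.card_eq (CfsgLib.Alperin.IsConj.right_le hM'c) hfull
    have h2 := CfsgLib.FusionSub.card_lt_card (normalizerIn_le S M) hlt₁
    rw [← h1, ← heq, hc2, hc1] at h2
    exact lt_irrefl _ h2
  -- a good subgroup in the class of `R₁`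
  have hR₁S : R₁ ≤ S := range_le hf₁
  have hbig : Nat.card P₀ < Nat.card R₁ := by
    rw [← CfsgLib.Alperin.IsConj.card_eq hMc]
    exact CfsgLib.FusionSub.card_lt_card hR₁S hM1
  obtain ⟨R', hR', hgood⟩ := h.big R₁ hR₁S hbig
  obtain ⟨e, he, hecard⟩ := exists_good_of_isGood h.isPGroup hR' hgood (stab R₁ M)
  rw [stab_map] at hecard
  set Ā := (M.subgroupOf R₁).map (R'.subtype.comp e.toMonoidHom) with hĀ
  obtain ⟨X, hMX, hXN, hXcard, θ, hθ, hθM⟩ := h.step_up hM1 hlt₁ hgood.2 hecard he rfl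
  let e' : R₂ ≃* R' := e₁₂.symm.trans e
  have he' : R'.subtype.comp e'.toMonoidHom ∈ F.Hom R₂ :=
    comp_mem_apply (equiv_symm_mem he₁₂) he (fun y => (e₁₂.symm y).2) fun y => rfl
  have he'M : (M'.subgroupOf R₂).map (R'.subtype.comp e'.toMonoidHom) = Ā := by
    rw [hĀ]
    ext y
    constructor
    · rintro ⟨w, hw, rfl⟩
      obtain ⟨z, hz, hzw⟩ := he₁₂M.ge hw
      refine ⟨z, hz, ?_⟩
      have : e₁₂.symm w = z :=
        e₁₂.injective (by rw [MulEquiv.apply_symm_apply]; exact Subtype.ext hzw.symm)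
      show _ = ((e (e₁₂.symm w) : R') : Ω)
      rw [this]
      rfl
    · rintro ⟨z, hz, rfl⟩
      refine ⟨e₁₂ z, he₁₂M.le ⟨z, hz, rfl⟩, ?_⟩
      show ((e (e₁₂.symm (e₁₂ z)) : R') : Ω) = _
      rw [MulEquiv.symm_apply_apply]
      rfl
  obtain ⟨X', hMX', hXN', hXcard', θ', hθ', hθM'⟩ := h.step_up hM2 hlt₂ hgood.2 hecard he' he'M
  have hĀS : Ā ≤ S := by
    rw [← hθM]
    exact (Subgroup.map_le_range θ _).trans (range_le hθ)
  obtain ⟨Mb, hMb, hMbt⟩ := exists_terminal F hĀS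
  have hfullM : FullMap F M M := by
    refine ⟨_, incl_mem F (normalizerIn_le S M), ?_⟩
    exact Subgroup.map_subgroupOf_eq_of_le (le_normalizerIn (CfsgLib.Alperin.IsConj.right_le hMc))
  have hfullM' : FullMap F M' M' := by
    refine ⟨_, incl_mem F (normalizerIn_le S M'), ?_⟩
    exact Subgroup.map_subgroupOf_eq_of_le (le_normalizerIn (CfsgLib.Alperin.IsConj.right_le hM'c))
  have hXS : X ≤ S := hXN.trans (normalizerIn_le S M)
  have hXS' : X' ≤ S := hXN'.trans (normalizerIn_le S M')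
  have hcXS : Nat.card X ≤ Nat.card S :=
    Nat.card_le_card_of_injective _ (Subgroup.inclusion_injective hXS)
  have hcXS' : Nat.card X' ≤ Nat.card S :=
    Nat.card_le_card_of_injective _ (Subgroup.inclusion_injective hXS')
  have k1 := ih (Nat.card S - Nat.card X) (by omega) rfl hMc hMX hXN hθ hθM hfullM hM hMb hMbt
  have k2 := ih (Nat.card S - Nat.card X') (by omega) rfl hM'c hMX' hXN' hθ' hθM' hfullM' hM' hMb hMbt
  exact k1.trans (CfsgLib.Alperin.IsConj.right_le hMc)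
    (k2.symm_of_card_eq (CfsgLib.Alperin.IsConj.right_le hM'c) (hM'.card_eq (CfsgLib.Alperin.IsConj.right_le hM'c) k2))

/-- Some member of the class receives the normalizers of all members. -/
theorem exists_top (h : CritData F p ℋ P₀) :
    ∃ P, F.IsConj P₀ P ∧ ∀ A, F.IsConj P₀ A → FullMap F A P := by
  obtain ⟨P, hP, hPt⟩ := exists_terminal F h.le_top
  have hPc : F.IsConj P₀ P := hP.isConj h.le_top
  -- linkage
  let Rel : Subgroup Ω → Subgroup Ω → Prop := fun A C => ∀ M M', FullMap F A M → IsTerminal F M →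
    FullMap F C M' → IsTerminal F M' → FullMap F M M'
  have hstep : ∀ {A C R : Subgroup Ω} {ψ : R →* Ω}, F.IsConj P₀ A → A < R → R ≤ normalizerIn S A →
      ψ ∈ F.Hom R → (A.subgroupOf R).map ψ = C → Rel A C :=
    fun hA hAR hRA hψ hC M M' a b c d => h.link hA hAR hRA hψ hC a b c d
  have hrefl : ∀ {A}, F.IsConj P₀ A → Rel A A := fun {A} hA =>
    hstep hA (CfsgLib.FusionSub.lt_normalizerIn h.isPGroup (h.class_lt hA)) le_rfl
      (incl_mem F (normalizerIn_le S A))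
      (Subgroup.map_subgroupOf_eq_of_le (le_normalizerIn (CfsgLib.Alperin.IsConj.right_le hA)))
  have htrans : ∀ {A B C}, F.IsConj P₀ A → F.IsConj P₀ B → Rel A B → Rel B C → Rel A C := by
    intro A B C hA hB hAB hBC M M' hM hMt hM' hM't
    obtain ⟨Mb, hMb, hMbt⟩ := exists_terminal F (CfsgLib.Alperin.IsConj.right_le hB)
    exact (hAB M Mb hM hMt hMb hMbt).trans
      (CfsgLib.Alperin.IsConj.right_le (CfsgLib.Alperin.IsConj.trans hA (hM.isConj (CfsgLib.Alperin.IsConj.right_le hA))))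
      (hBC Mb M' hMb hMbt hM' hM't)
  have hsymm : ∀ {A C}, F.IsConj P₀ A → Rel A C → Rel C A := fun {A C} hA hAC M M' hM hMt hM' hM't => by
    have h1 := hAC M' M hM' hM't hM hMt
    exact h1.symm_of_card_eq (CfsgLib.Alperin.IsConj.right_le (CfsgLib.Alperin.IsConj.trans hA (hM'.isConj (CfsgLib.Alperin.IsConj.right_le hA))))
      (hM't.card_eq (CfsgLib.Alperin.IsConj.right_le (CfsgLib.Alperin.IsConj.trans hA (hM'.isConj (CfsgLib.Alperin.IsConj.right_le hA)))) h1)
  -- generation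
  let Good : ∀ R : Subgroup Ω, (R →* Ω) → Prop := fun R φ =>
    ∀ A, F.IsConj P₀ A → A ≤ R → Rel A ((A.subgroupOf R).map φ)
  have hclass : ∀ {R A : Subgroup Ω} {φ : R →* Ω}, φ ∈ F.Hom R → F.IsConj P₀ A → A ≤ R →
      F.IsConj P₀ ((A.subgroupOf R).map φ) := fun hφ hA hAR =>
    CfsgLib.Alperin.IsConj.trans hA ⟨_, restrict_mem hφ hAR, range_comp_inclusion _ _⟩
  let E : FusionSystem S :=
    { Hom := fun R => {φ | φ ∈ F.Hom R ∧ Good R φ}
      le_of_mem := fun hm => F.le_of_mem hm.1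
      injective_of_mem := fun hm => F.injective_of_mem hm.1
      conj_mem := by
        intro R g hR hg
        refine ⟨F.conj_mem hR hg, fun A hA hAR => ?_⟩
        refine hstep hA (CfsgLib.FusionSub.lt_normalizerIn h.isPGroup (h.class_lt hA)) le_rfl
          (F.conj_mem (normalizerIn_le S A) hg) ?_
        ext y
        constructor
        · rintro ⟨w, hw, rfl⟩
          exact ⟨⟨w, hAR hw⟩, hw, rfl⟩
        · rintro ⟨w, hw, rfl⟩
          exact ⟨⟨w, le_normalizerIn (CfsgLib.Alperin.IsConj.right_le hA) hw⟩, hw, rfl⟩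
      comp_mem := by
        rintro R Q φ ψ ⟨hφ, hφG⟩ ⟨hψ, hψG⟩ hv
        refine ⟨F.comp_mem hφ hψ hv, fun A hA hAR => ?_⟩
        have hle : (A.subgroupOf R).map φ ≤ Q := by
          rintro _ ⟨w, -, rfl⟩
          exact hv w
        have he : ((((A.subgroupOf R).map φ).subgroupOf Q).map ψ) =
            (A.subgroupOf R).map (ψ.comp (φ.codRestrict Q hv)) := by
          ext y
          constructor
          · rintro ⟨z, ⟨w, hw, hwz⟩, rfl⟩
            exact ⟨w, hw, congrArg ψ (Subtype.ext hwz)⟩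
          · rintro ⟨w, hw, rfl⟩
            exact ⟨⟨φ w, hv w⟩, Subgroup.mem_map_of_mem φ hw, rfl⟩
        exact htrans hA (hclass hφ hA hAR) (hφG A hA hAR) (he ▸ hψG _ (hclass hφ hA hAR) hle)
      inv_mem := by
        rintro R φ ⟨hφ, hφG⟩
        obtain ⟨θ, hθ, hθx⟩ := F.inv_mem hφ
        refine ⟨θ, ⟨hθ, fun B hB hBR => ?_⟩, hθx⟩
        set A := (B.subgroupOf φ.range).map θ with hAdef
        have hAR : A ≤ R := by
          rintro _ ⟨⟨_, w, rfl⟩, -, rfl⟩
          rw [hθx]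
          exact w.2
        have hA : F.IsConj P₀ A := hclass hθ hB hBR
        have hB' : (A.subgroupOf R).map φ = B := by
          ext y
          constructor
          · rintro ⟨w, ⟨⟨_, v, rfl⟩, hv, hvw⟩, rfl⟩
            rw [hθx] at hvw
            exact (Subtype.ext hvw : v = w) ▸ hv
          · intro hy
            obtain ⟨v, rfl⟩ := hBR hy
            exact ⟨v, ⟨⟨φ v, v, rfl⟩, hy, hθx v⟩, rfl⟩
        have h1 := hφG A hA hAR
        rw [hB'] at h1
        exact hsymm hA h1 }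
  have hall := h.gen E fun X hX φ hφ => ⟨hφ, fun A hA hAX => by
    have hne : A ≠ X := fun e => h.notMem A hA (e ▸ hX)
    obtain ⟨g, hgX, hgN, hgA⟩ := CfsgLib.FusionSub.exists_mem_normalizer_not_mem h.isPGroup
      (lt_of_le_of_ne hAX hne) (dom_le hφ)
    have hAN : A ≤ X ⊓ normalizerIn S A := le_inf hAX (le_normalizerIn (CfsgLib.Alperin.IsConj.right_le hA))
    refine hstep hA (lt_of_le_of_ne hAN fun e => hgA (e.ge ⟨hgX, dom_le hφ hgX, hgN⟩)) inf_le_right
      (restrict_mem hφ inf_le_left) ?_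
    ext y
    constructor
    · rintro ⟨w, hw, rfl⟩
      exact ⟨Subgroup.inclusion inf_le_left w, hw, rfl⟩
    · rintro ⟨w, hw, rfl⟩
      exact ⟨⟨w, hAN hw⟩, hw, rfl⟩⟩
  refine ⟨P, hPc, fun A hA => ?_⟩
  obtain ⟨φ, hφ, hr⟩ := CfsgLib.Alperin.IsConj.trans (CfsgLib.Alperin.IsConj.symm hA) hPc
  have h1 := (hall A hφ).2 A hA le_rfl
  rw [Subgroup.subgroupOf_self, ← MonoidHom.range_eq_map, hr] at h1
  obtain ⟨M, hM, hMt⟩ := exists_terminal F (CfsgLib.Alperin.IsConj.right_le hA)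
  have hPP : FullMap F P P :=
    ⟨_, incl_mem F (normalizerIn_le S P),
      Subgroup.map_subgroupOf_eq_of_le (le_normalizerIn (CfsgLib.Alperin.IsConj.right_le hPc))⟩
  exact hM.trans (CfsgLib.Alperin.IsConj.right_le hA) (h1 M P hM hMt hPP hPt)

end CritData

end CfsgLib.FusionBasics
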