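import Cfsg.Agent.Lib.FusionBasics.KSaturated
import Cfsg.Agent.Lib.FusionBasics.Aut
import Cfsg.Agent.Lib.FusionSub.Induction

/-! Tools for the saturation criterion: extension through a receptive subgroup, stabilizers. -/

set_option autoImplicit false
set_option linter.style.haveILetI false

namespace CfsgLib.FusionBasics

open Cfsg Cfsg.FusionSystem CfsgLib.Alperin

variable {Ω : Type*} [Group Ω] {S : Subgroup Ω}

/-- Fully automized and receptive. -/
def IsGood (F : FusionSystem S) (p : ℕ) (R : Subgroup Ω) : Prop :=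
  F.IsFullyAutomized p R ∧ F.IsReceptive R

theorem equiv_range {R R' : Subgroup Ω} (e : R ≃* R') :
    (R'.subtype.comp e.toMonoidHom).range = R' := by
  rw [MonoidHom.range_comp, MonoidHom.range_eq_top.mpr e.surjective, ← MonoidHom.range_eq_map,
    Subgroup.range_subtype]

theorem equiv_symm_mem {F : FusionSystem S} {R R' : Subgroup Ω} {e : R ≃* R'}
    (he : R'.subtype.comp e.toMonoidHom ∈ F.Hom R) :
    R.subtype.comp e.symm.toMonoidHom ∈ F.Hom R' := by
  refine mem_of_apply_eq (isoOfHom_symm_mem he (equiv_range e)) fun y => ?_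
  obtain ⟨x, rfl⟩ := e.surjective y
  have : (isoOfHom _ (F.injective_of_mem he) (equiv_range e)) x = e x := Subtype.ext rfl
  show ((e.symm (e x) : R) : Ω) = _
  rw [MulEquiv.symm_apply_apply, ← this]
  show _ = (((isoOfHom _ _ _).symm (isoOfHom _ _ _ x) : R) : Ω)
  rw [MulEquiv.symm_apply_apply]

theorem map_autGroup_equiv {F : FusionSystem S} {R R' : Subgroup Ω} {e : R ≃* R'}
    (he : R'.subtype.comp e.toMonoidHom ∈ F.Hom R) :
    (F.autGroup R).map (MulAut.congr e).toMonoidHom = F.autGroup R' := by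
  rw [← autGroup_map_congr he (equiv_range e)]
  have : isoOfHom _ (F.injective_of_mem he) (equiv_range e) = e :=
    MulEquiv.ext fun x => Subtype.ext rfl
  rw [this]

theorem congr_mem {F : FusionSystem S} {R R' : Subgroup Ω} {e : R ≃* R'}
    (he : R'.subtype.comp e.toMonoidHom ∈ F.Hom R) {β : MulAut R} (hβ : β ∈ F.autGroup R) :
    MulAut.congr e β ∈ F.autGroup R' :=
  (map_autGroup_equiv he).le ⟨β, hβ, rfl⟩

/-- The automorphisms of `R` preserving the subgroup `A`. -/
def stab (R A : Subgroup Ω) : Subgroup (MulAut R) where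
  carrier := {β | ∀ x : R, (x : Ω) ∈ A ↔ ((β x : R) : Ω) ∈ A}
  one_mem' := fun _ => Iff.rfl
  mul_mem' := fun {β γ} hβ hγ x => (hγ x).trans (hβ (γ x))
  inv_mem' := fun {β} hβ x => by rw [hβ (β⁻¹ x), MulAut.apply_inv_self]

/-- Restriction of a stabilizing automorphism. -/
def stabRes {R A : Subgroup Ω} (hA : A ≤ R) : stab R A →* MulAut A where
  toFun β :=
    { toFun := fun x => ⟨(β : MulAut R) ⟨x, hA x.2⟩, (β.2 ⟨x, hA x.2⟩).mp x.2⟩
      invFun := fun x => ⟨(β : MulAut R)⁻¹ ⟨x, hA x.2⟩, ((stab R A).inv_mem β.2 ⟨x, hA x.2⟩).mp x.2⟩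
      left_inv := fun x => Subtype.ext (by
        show (((β : MulAut R)⁻¹ ⟨((β : MulAut R) ⟨x, hA x.2⟩ : R), _⟩ : R) : Ω) = x
        simp)
      right_inv := fun x => Subtype.ext (by
        show (((β : MulAut R) ⟨((β : MulAut R)⁻¹ ⟨x, hA x.2⟩ : R), _⟩ : R) : Ω) = x
        simp)
      map_mul' := fun x y => Subtype.ext (by
        show (((β : MulAut R) ⟨(x : Ω) * y, _⟩ : R) : Ω) = _
        rw [show (⟨(x : Ω) * y, hA (A.mul_mem x.2 y.2)⟩ : R) = ⟨x, hA x.2⟩ * ⟨y, hA y.2⟩ from rfl,
          map_mul]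
        rfl) }
  map_one' := MulEquiv.ext fun _ => Subtype.ext rfl
  map_mul' _ _ := MulEquiv.ext fun _ => Subtype.ext rfl

theorem stabRes_apply {R A : Subgroup Ω} (hA : A ≤ R) (β : stab R A) (x : A) :
    ((stabRes hA β x : A) : Ω) = ((β : MulAut R) (Subgroup.inclusion hA x) : R) := rfl

theorem stab_map {R R' A : Subgroup Ω} (e : R ≃* R') :
    (stab R A).map (MulAut.congr e).toMonoidHom =
      stab R' ((A.subgroupOf R).map (R'.subtype.comp e.toMonoidHom)) := by
  have key : ∀ (z : R), (e z : Ω) ∈ (A.subgroupOf R).map (R'.subtype.comp e.toMonoidHom) ↔ (z : Ω) ∈ A := by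
    intro z
    constructor
    · rintro ⟨w, hw, hwz⟩
      have : w = z := e.injective (Subtype.ext hwz)
      exact this ▸ hw
    · exact fun hz => ⟨z, hz, rfl⟩
  ext γ
  constructor
  · rintro ⟨β, hβ, rfl⟩ y
    obtain ⟨z, rfl⟩ := e.surjective y
    show _ ↔ (e (β (e.symm (e z))) : Ω) ∈ _
    rw [MulEquiv.symm_apply_apply, key, key]
    exact hβ z
  · intro hγ
    refine ⟨(MulAut.congr e).symm γ, fun z => ?_, (MulAut.congr e).apply_symm_apply γ⟩
    show _ ↔ ((e.symm (γ (e z)) : R) : Ω) ∈ A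
    rw [← key, ← key, MulEquiv.apply_symm_apply]
    exact hγ (e z)

variable {p : ℕ} [Fact p.Prime] [Finite S]

/-- A class containing a fully automized receptive member has, for every `L`, a receptive member at
which the transported `L` has its Sylow subgroup induced by `S`. -/
theorem exists_good_of_isGood (hS : IsPGroup p S) {F : FusionSystem S} {X X' : Subgroup Ω}
    (hXX' : F.IsConj X X') (hg : IsGood F p X') (L : Subgroup (MulAut X)) :
    ∃ e : X ≃* X', X'.subtype.comp e.toMonoidHom ∈ F.Hom X ∧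
      Nat.card ↥(autInducedBy S X' ⊓ L.map (MulAut.congr e).toMonoidHom) =
        p ^ (Nat.card ↥(F.autGroup X' ⊓ L.map (MulAut.congr e).toMonoidHom)).factorization p := by
  obtain ⟨hX', R, hR⟩ := hg.1
  obtain ⟨φ, hφ, hr⟩ := hXX'
  have hX := dom_le hφ
  set e₀ := isoOfHom φ (F.injective_of_mem hφ) hr
  haveI := finite_autGroup F hX'
  haveI := finite_of_le hX'
  haveI := finite_mulAut (P := X')
  set A' := F.autGroup X' ⊓ L.map (MulAut.congr e₀).toMonoidHom with hA'
  let P' : Sylow p A' := Classical.arbitrary _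
  have hB : IsPGroup p ((P' : Subgroup A').map A'.subtype) := P'.2.map _
  have hRcard : Nat.card ↥(autInducedBy S X') = p ^ (Nat.card (F.autGroup X')).factorization p := by
    rw [← Nat.card_congr (Subgroup.subgroupOfEquivOfLe (autInducedBy_le_autGroup F hX')).toEquiv,
      ← hR]
    exact R.card_eq_multiplicity
  obtain ⟨u, hu, hub⟩ := exists_conj_le (autInducedBy_le_autGroup F hX') hRcard
    ((Subgroup.map_subtype_le _).trans inf_le_left) hB
  let e : X ≃* X' := e₀.trans u
  have hL : L.map (MulAut.congr e).toMonoidHom =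
      (L.map (MulAut.congr e₀).toMonoidHom).map (MulAut.conj u).toMonoidHom := by
    rw [Subgroup.map_map]
    congr 1
  have hA : F.autGroup X' ⊓ L.map (MulAut.congr e).toMonoidHom = A'.map (MulAut.conj u).toMonoidHom := by
    rw [hL, hA', Subgroup.map_inf _ _ _ (MulAut.conj u).injective]
    congr 1
    exact (Subgroup.mem_normalizer_iff_map_conj_eq.mp (Subgroup.le_normalizer hu)).symm
  refine ⟨e, comp_mem_apply hφ ((mem_autGroup_iff F hX').mp hu) (fun x => (e₀ x).2) fun x => rfl,
    le_antisymm ?_ ?_⟩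
  · exact card_le_sylow_card_of_le (inf_le_inf_right _ (autInducedBy_le_autGroup F hX'))
      ((isPGroup_autInducedBy hS X').to_le inf_le_left)
  · rw [hA, Subgroup.card_map_of_injective (MulAut.conj u).injective, ← P'.card_eq_multiplicity,
      ← Subgroup.card_map_of_injective A'.subtype_injective,
      ← Subgroup.card_map_of_injective (f := (MulAut.conj u).toMonoidHom)
        (K := (P' : Subgroup A').map A'.subtype) (MulAut.conj u).injective]
    refine Subgroup.card_le_of_le (le_inf ?_ ?_)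
    · rintro _ ⟨b, hb, rfl⟩
      exact hub b hb
    · rw [hL]
      exact Subgroup.map_mono ((Subgroup.map_subtype_le _).trans inf_le_right)

/-- Extension of an isomorphism onto a receptive subgroup over elements inducing members of a group
`L` whose Sylow subgroup is induced by `S`. -/
theorem exists_extend (hS : IsPGroup p S) {F : FusionSystem S} {R R' : Subgroup Ω}
    (hrec : F.IsReceptive R') {L : Subgroup (MulAut R')}
    (hcard : Nat.card ↥(autInducedBy S R' ⊓ L) = p ^ (Nat.card ↥(F.autGroup R' ⊓ L)).factorization p)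
    {e : R ≃* R'} (he : R'.subtype.comp e.toMonoidHom ∈ F.Hom R) {X : Subgroup Ω} (hX : X ≤ S)
    (hXR : ∀ g ∈ X, ∃ hg : g ∈ Subgroup.normalizer (R : Set Ω),
      MulAut.congr e (conjAut R g hg) ∈ L) :
    ∃ u ∈ F.autGroup R' ⊓ L, ∃ χ ∈ F.Hom (X ⊔ R),
      ∀ x : R, χ (Subgroup.inclusion le_sup_right x) = ((u (e x) : R') : Ω) := by
  haveI := finite_autGroup F hrec.1
  haveI := finite_of_le hrec.1
  haveI := finite_mulAut (P := R')
  have hR : R ≤ S := dom_le he
  set B := (autInducedBy X R).map (MulAut.congr e).toMonoidHom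
  have hB : B ≤ F.autGroup R' ⊓ L := by
    rintro _ ⟨β, hβ, rfl⟩
    obtain ⟨g, hg, hx⟩ := mem_autInducedBy_iff.mp hβ
    obtain ⟨hgN, hL⟩ := hXR g hg
    have : β = conjAut R g hgN := MulEquiv.ext fun x => Subtype.ext (hx x)
    subst this
    exact ⟨congr_mem he (autInducedBy_le_autGroup F hR (conjAut_mem (hX hg) hgN)), hL⟩
  obtain ⟨u, hu, huB⟩ := exists_conj_le (inf_le_inf_right L (autInducedBy_le_autGroup F hrec.1)) hcard
    hB ((isPGroup_autInducedBy (isPGroup_of_le hS hX) R).map _)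
  let φ : R →* Ω := R'.subtype.comp (e.trans u).toMonoidHom
  have hφ : φ ∈ F.Hom R := comp_mem_apply he ((mem_autGroup_iff F hrec.1).mp hu.1)
    (fun x => (e x).2) fun x => rfl
  obtain ⟨χ, hχ, hχx⟩ := hrec.2 R φ hφ (equiv_range (e.trans u))
  have hle : X ⊔ R ≤ extender S R φ := by
    refine sup_le (fun g hg => ?_) (le_extender hφ)
    obtain ⟨hgN, -⟩ := hXR g hg
    obtain ⟨h, hh, hx⟩ := mem_autInducedBy_iff.mp (huB _ ⟨_, conjAut_mem hg hgN, rfl⟩).1
    refine mem_extender_iff.mpr ⟨hX hg, hgN, h, hh, fun x hx' => ?_⟩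
    refine Eq.trans ?_ (hx (u (e x)))
    show ((u (e ⟨g * x * g⁻¹, hx'⟩) : R') : Ω) = _
    simp only [MulAut.mul_apply, MulAut.inv_apply_self]
    show _ = ((u (e (conjAut R g hgN (e.symm (e x)))) : R') : Ω)
    rw [MulEquiv.symm_apply_apply]
    rfl
  exact ⟨u, hu, χ.comp (Subgroup.inclusion hle), restrict_mem hχ hle,
    fun x => hχx x x.2 _⟩

end CfsgLib.FusionBasics
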